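import Cfsg.Agent.Lib.G2Odd.Involutions
import Cfsg.Agent.Lib.Chev.OrderG2
import Mathlib.GroupTheory.Index

/-!
The involutions of the Chevalley group of type G2 over a field of odd order and their centralizers.
-/

set_option autoImplicit false
set_option linter.dupNamespace false

namespace CfsgLib.G2Odd

open Cfsg.Lie Matrix CfsgLib.Chev CfsgLib.Chev.RankOne

variable (Φ : Chev Cfsg.Lie.chevG2) {F : Type*} [Field F] [Fintype F]

theorem two_ne_zero_of_odd (hF : Odd (Fintype.card F)) : (2 : F) ≠ 0 := fun h => by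
  haveI : CharP F 2 := CharTwo.of_one_ne_zero_of_two_eq_zero one_ne_zero h
  have := FiniteField.even_card_of_char_two (F := F) (ringChar.eq F 2)
  rw [Nat.odd_iff] at hF
  omega

/-- The central involution in the group. -/
noncomputable def zG : ↥(Cfsg.Lie.chevG2.group F) :=
  ⟨zel Φ, Φ.B_le_group (Chev.H_le_B (CfsgLib.G2SL3.torus_mem_H_G2 Φ _))⟩

theorem centralizer_zG (h2 : (2 : F) ≠ 0) :
    Subgroup.centralizer ({zG Φ} : Set ↥(Cfsg.Lie.chevG2.group F)) =
      (Xi Φ (F := F)).range.subgroupOf (Cfsg.Lie.chevG2.group F) := by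
  ext g
  rw [Subgroup.mem_centralizer_singleton_iff, Subgroup.mem_subgroupOf]
  refine ⟨fun h => mem_range_of_commute Φ h2 g.2 ?_, fun h => Subtype.ext (commute_zel Φ h).eq.symm⟩
  exact (congrArg Subtype.val h).symm

theorem range_le_group : (Xi Φ (F := F)).range ≤ Cfsg.Lie.chevG2.group F := by
  rintro _ ⟨x, rfl⟩
  exact Xi_mem_group Φ x

theorem card_centralizer_zG (h2 : (2 : F) ≠ 0) :
    Nat.card (Subgroup.centralizer ({zG Φ} : Set ↥(Cfsg.Lie.chevG2.group F))) =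
      Fintype.card F ^ 2 * (Fintype.card F ^ 2 - 1) ^ 2 := by
  rw [centralizer_zG Φ h2, Nat.card_congr (Subgroup.subgroupOfEquivOfLe (range_le_group Φ)).toEquiv,
    card_range_Xi]

theorem index_centralizer_odd (hF : Odd (Fintype.card F)) :
    ¬ 2 ∣ (Subgroup.centralizer ({zG Φ} : Set ↥(Cfsg.Lie.chevG2.group F))).index := by
  set q := Fintype.card F with hq
  have h1 : 1 < q := Fintype.one_lt_card
  have hc := card_centralizer_zG Φ (two_ne_zero_of_odd hF)
  have hG : Nat.card (Cfsg.Lie.chevG2.group F) = q ^ 6 * (q ^ 2 - 1) * (q ^ 6 - 1) := by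
    have h := Φ.order_formula (F := F) (degs := [2, 6]) rfl (CfsgLib.Chev.cardHG2 Φ F) (CfsgLib.Chev.sumWG2 Φ)
    rw [show Cfsg.Lie.chevG2.nroots / 2 = 6 from rfl, Nat.card_eq_fintype_card (α := F), ← hq] at h
    simp [Fin.prod_univ_succ, List.map, List.prod_cons, mul_assoc] at h ⊢
    exact h
  have hm := (Subgroup.centralizer ({zG Φ} : Set ↥(Cfsg.Lie.chevG2.group F))).card_mul_index
  rw [hG, hc, ← hq] at hm
  obtain ⟨s, hs⟩ : ∃ s, q ^ 2 = s + 1 := ⟨q ^ 2 - 1, by have := Nat.one_le_pow 2 q (by omega); omega⟩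
  have h6 : q ^ 6 - 1 = s * (q ^ 4 + q ^ 2 + 1) := by
    have : q ^ 6 = s * (q ^ 4 + q ^ 2 + 1) + 1 := by
      rw [show q ^ 6 = (q ^ 2) ^ 3 by ring, show q ^ 4 = (q ^ 2) ^ 2 by ring, hs]
      ring
    omega
  have hpos : 0 < q ^ 2 * (q ^ 2 - 1) ^ 2 := by
    have : 1 < q ^ 2 := Nat.one_lt_pow (by norm_num) h1
    exact Nat.mul_pos (by omega) (pow_pos (by omega) 2)
  have hi : (Subgroup.centralizer ({zG Φ} : Set ↥(Cfsg.Lie.chevG2.group F))).index =
      q ^ 4 * (q ^ 4 + q ^ 2 + 1) := by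
    refine Nat.eq_of_mul_eq_mul_left hpos (hm.trans ?_)
    rw [h6, show q ^ 2 - 1 = s by omega]
    ring
  rw [hi]
  intro hd
  have hodd : Odd (q ^ 4 * (q ^ 4 + q ^ 2 + 1)) := hF.pow.mul ((hF.pow.add_odd hF.pow).add_odd odd_one)
  exact Nat.not_even_iff_odd.2 hodd (even_iff_two_dvd.2 hd)

/-- Every involution is conjugate to the central involution. -/
theorem isConj_zG (hF : Odd (Fintype.card F)) (t : ↥(Cfsg.Lie.chevG2.group F)) (ht : orderOf t = 2) :
    IsConj (zG Φ) t := by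
  have h2 := two_ne_zero_of_odd hF
  set C := Subgroup.centralizer ({zG Φ} : Set ↥(Cfsg.Lie.chevG2.group F))
  let Q : Sylow 2 C := default
  obtain ⟨k, hk⟩ := IsPGroup.iff_card.1 Q.2
  have hQ : IsPGroup 2 ((Q : Subgroup C).map C.subtype) := Q.2.map _
  have hidx : ¬ 2 ∣ ((Q : Subgroup C).map C.subtype).index := by
    rw [Subgroup.index_map_subtype]
    exact Nat.prime_two.not_dvd_mul Q.not_dvd_index (index_centralizer_odd Φ hF)
  let P := hQ.toSylow hidx
  have hz : IsPGroup 2 (Subgroup.zpowers t) := IsPGroup.of_card (n := 1) (by rw [Nat.card_zpowers, ht, pow_one])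
  obtain ⟨R', hR⟩ := hz.exists_le_sylow
  obtain ⟨g, hg⟩ := MulAction.exists_smul_eq ↥(Cfsg.Lie.chevG2.group F) R' P
  have hm : g * t * g⁻¹ ∈ C := by
    have h1 : g * t * g⁻¹ ∈ (P : Subgroup ↥(Cfsg.Lie.chevG2.group F)) := by
      rw [← hg, Sylow.smul_def, Sylow.pointwise_smul_def]
      exact ⟨t, hR (Subgroup.mem_zpowers t), rfl⟩
    obtain ⟨y, -, hy⟩ := h1
    rw [← hy]
    exact y.2
  rw [show C = _ from centralizer_zG Φ h2, Subgroup.mem_subgroupOf] at hm
  have hsq : t * t = 1 := by rw [← pow_two, ← ht, pow_orderOf_eq_one]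
  obtain ⟨h, hh, he⟩ := cj_of_mem_range Φ h2 hm
    (congrArg Subtype.val (show g * t * g⁻¹ * (g * t * g⁻¹) = 1 by
      rw [show g * t * g⁻¹ * (g * t * g⁻¹) = g * (t * t) * g⁻¹ by group, hsq, mul_one, mul_inv_cancel]))
    (fun e => by
      have e' : g * t * g⁻¹ = 1 := Subtype.ext e
      rw [mul_inv_eq_one, mul_eq_left] at e'
      rw [e', orderOf_one] at ht
      exact absurd ht (by norm_num))
  refine (isConj_iff.2 ⟨⟨h, hh⟩ * g, ?_⟩).symm
  refine Subtype.ext ?_
  show h * g.1 * t.1 * (h * g.1)⁻¹ = zel Φ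
  rw [← he]
  simp only [Subgroup.coe_mul, InvMemClass.coe_inv]
  group

/-- The two subgroups isomorphic to `SL(2)`. -/
noncomputable def L (r : Fin Cfsg.Lie.chevG2.nroots) : Subgroup ↥(Cfsg.Lie.chevG2.group F) :=
  (phi Φ r (F := F)).range.subgroupOf _

noncomputable def L_equiv {r : Fin Cfsg.Lie.chevG2.nroots} (h : Function.Injective (phi Φ r (F := F))) :
    L (F := F) Φ r ≃* Matrix.SpecialLinearGroup (Fin 2) F :=
  (Subgroup.subgroupOfEquivOfLe (by rintro _ ⟨g, rfl⟩; exact phi_mem_group Φ r g)).trans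
    (MonoidHom.ofInjective h).symm

theorem L_comm : ∀ x ∈ L Φ (R 6) (F := F), ∀ y ∈ L Φ (R 9) (F := F), x * y = y * x := by
  rintro x ⟨a, ha⟩ y ⟨b, hb⟩
  refine Subtype.ext ?_
  show x.1 * y.1 = y.1 * x.1
  have ha' : phi Φ (R 6) a = x.1 := ha
  have hb' : phi Φ (R 9) b = y.1 := hb
  rw [← ha', ← hb']
  exact (phi_comm Φ a b).eq

/-- The scalar matrix `-1`. -/
def negOne : SpecialLinearGroup (Fin 2) F := ⟨!![-1, 0; 0, -1], by simp [Matrix.det_fin_two]⟩

theorem phi_negOne : phi Φ (R 6) negOne = zel Φ (F := F) ∧ phi Φ (R 9) negOne = zel Φ (F := F) := by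
  constructor
  · rw [phi_six_diag Φ _ (-1) rfl rfl (by simp [negOne])]
    exact congrArg Φ.toAlg.torus (funext fun i => by fin_cases i <;> simp [zc])
  · rw [phi_nine_diag Φ _ (-1) rfl rfl (by simp [negOne])]
    exact congrArg Φ.toAlg.torus (funext fun i => by fin_cases i <;> simp [zc])

theorem L_inf : L Φ (R 6) ⊓ L Φ (R 9) = Subgroup.zpowers (zG Φ (F := F)) := by
  refine le_antisymm ?_ (Subgroup.zpowers_le.2 ⟨⟨negOne, (phi_negOne Φ).1⟩, ⟨negOne, (phi_negOne Φ).2⟩⟩)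
  rintro x ⟨⟨a, ha⟩, ⟨b, hb⟩⟩
  have hc : ∀ g : SpecialLinearGroup (Fin 2) F, a * g = g * a := fun g => phi_six_injective Φ (by
    rw [map_mul, map_mul]
    have e : phi Φ (R 6) a = phi Φ (R 9) b := ha.trans hb.symm
    rw [e]
    exact (phi_comm Φ g b).eq.symm)
  obtain ⟨h10, h01, h11⟩ := scalar_of_commute a.1 fun g => congrArg Subtype.val (hc g)
  have hd := a.2
  rw [Matrix.det_fin_two, h10, h01, h11, mul_zero, sub_zero] at hd
  rcases mul_self_eq_one_iff.1 hd with h | h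
  · have : a = 1 := Subtype.ext (Matrix.ext fun i j => by fin_cases i <;> fin_cases j <;> simp [h10, h01, h11, h])
    subst this
    rw [show x = 1 from Subtype.ext (ha.symm.trans (map_one _))]
    exact one_mem _
  · have : a = negOne := Subtype.ext (Matrix.ext fun i j => by
      fin_cases i <;> fin_cases j <;> simp [negOne, h10, h01, h11, h])
    subst this
    rw [show x = zG Φ from Subtype.ext (ha.symm.trans (phi_negOne Φ).1)]
    exact Subgroup.mem_zpowers _

theorem L_sup_le (h2 : (2 : F) ≠ 0) :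
    L Φ (R 6) ⊔ L Φ (R 9) ≤ Subgroup.centralizer ({zG Φ} : Set ↥(Cfsg.Lie.chevG2.group F)) := by
  rw [centralizer_zG Φ h2]
  refine sup_le ?_ ?_
  · rintro x ⟨a, ha⟩
    exact Subgroup.mem_subgroupOf.2 ((show phi Φ (R 6) a = x.1 from ha) ▸ phi_six_mem Φ a)
  · rintro x ⟨a, ha⟩
    exact Subgroup.mem_subgroupOf.2 ((show phi Φ (R 9) a = x.1 from ha) ▸ phi_nine_mem Φ a)

/-- The pairs whose determinant is a square. -/
noncomputable def PairSq (F : Type*) [Field F] : Subgroup (Pair F) :=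
  (powMonoidHom 2 : Fˣ →* Fˣ).range.comap
    ((GeneralLinearGroup.det.comp (MonoidHom.fst _ _)).comp (Pair F).subtype)

/-- The corresponding homomorphism into the group. -/
noncomputable def XiG : Pair F →* ↥(Cfsg.Lie.chevG2.group F) :=
  MonoidHom.codRestrict (Xi Φ) _ (Xi_mem_group Φ)

theorem XiG_mem_sup_iff (x : Pair F) :
    XiG Φ x ∈ L Φ (R 6) ⊔ L Φ (R 9) ↔ GeneralLinearGroup.det x.1.1 ∈ (powMonoidHom 2 : Fˣ →* Fˣ).range := by
  constructor
  · intro h
    have hle : L Φ (R 6) ⊔ L Φ (R 9) ≤ (PairSq F).map (XiG Φ) := by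
      refine sup_le ?_ ?_
      · rintro y ⟨a, ha⟩
        have ha' : phi Φ (R 6) a = y.1 := ha
        have h1 : GeneralLinearGroup.det (Matrix.SpecialLinearGroup.toGL a) = 1 := Units.ext (by simp)
        refine ⟨⟨(Matrix.SpecialLinearGroup.toGL a, 1), mem_Pair.2 (h1.trans (map_one _).symm)⟩, ⟨1, ?_⟩,
          Subtype.ext ?_⟩
        · exact (map_one _).trans h1.symm
        · rw [← ha']
          show phi Φ (R 6) (sd (Matrix.SpecialLinearGroup.toGL a)) * phi Φ (R 9) (sd 1) *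
            td Φ (GeneralLinearGroup.det (Matrix.SpecialLinearGroup.toGL a)) = _
          rw [(congrArg (td Φ) h1).trans (torus_vec_one Φ), sd_one, map_one, mul_one, mul_one]
          congr 1
          refine Subtype.ext ?_
          show a.1 * !![(((GeneralLinearGroup.det (Matrix.SpecialLinearGroup.toGL a))⁻¹ : Fˣ) : F), 0; 0, 1] = a.1
          rw [h1]
          simp [← Matrix.one_fin_two]
      · rintro y ⟨a, ha⟩
        have ha' : phi Φ (R 9) a = y.1 := ha
        have h1 : GeneralLinearGroup.det (Matrix.SpecialLinearGroup.toGL a) = 1 := Units.ext (by simp)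
        refine ⟨⟨(1, Matrix.SpecialLinearGroup.toGL a), mem_Pair.2 ((map_one _).trans h1.symm)⟩, ⟨1, ?_⟩,
          Subtype.ext ?_⟩
        · exact (map_one _).trans (map_one GeneralLinearGroup.det).symm
        · rw [← ha']
          show phi Φ (R 6) (sd 1) * phi Φ (R 9) (sd (Matrix.SpecialLinearGroup.toGL a)) *
            td Φ (GeneralLinearGroup.det (1 : GL (Fin 2) F)) = _
          rw [(congrArg (td Φ) (map_one GeneralLinearGroup.det)).trans (torus_vec_one Φ), sd_one, map_one,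
            one_mul, mul_one]
          congr 1
          refine Subtype.ext ?_
          show a.1 * !![(((GeneralLinearGroup.det (Matrix.SpecialLinearGroup.toGL a))⁻¹ : Fˣ) : F), 0; 0, 1] = a.1
          rw [h1]
          simp [← Matrix.one_fin_two]
    obtain ⟨y, ⟨k, hk⟩, hy⟩ := hle h
    have hker : y⁻¹ * x ∈ (Xi Φ (F := F)).ker := by
      have hy' : Xi Φ y = Xi Φ x := congrArg Subtype.val hy
      rw [MonoidHom.mem_ker, map_mul, map_inv, hy', inv_mul_cancel]
    rw [ker_Xi] at hker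
    obtain ⟨m, hm⟩ := hker
    refine ⟨k * m, ?_⟩
    have hx : x = y * scal m := by rw [hm, mul_inv_cancel_left]
    have hk' : k ^ 2 = GeneralLinearGroup.det y.1.1 := hk
    rw [powMonoidHom_apply, mul_pow, hx, hk']
    show _ = GeneralLinearGroup.det (y.1.1 * scalarGL F m)
    rw [map_mul, scalar_det (A := scalarGL F m) (a := m) (by simp [scalarGL]) (by simp [scalarGL]) (by simp [scalarGL]) (by simp [scalarGL])]
  · rintro ⟨k, hk⟩
    have hk' : k ^ 2 = GeneralLinearGroup.det x.1.1 := hk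
    set y := (scal k)⁻¹ * x with hy
    have hX : Xi Φ y = Xi Φ x := by
      have hs : scal k ∈ (Xi Φ (F := F)).ker := by rw [ker_Xi]; exact ⟨k, rfl⟩
      rw [hy, map_mul, map_inv, MonoidHom.mem_ker.1 hs, inv_one, one_mul]
    have hd : GeneralLinearGroup.det y.1.1 = 1 := by
      show GeneralLinearGroup.det ((scalarGL F k)⁻¹ * x.1.1) = 1
      rw [map_mul, map_inv, scalar_det (a := k) (by simp [scalarGL]) (by simp [scalarGL]) (by simp [scalarGL])
        (by simp [scalarGL]), hk', inv_mul_cancel]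
    have e : XiG Φ x = (⟨phi Φ (R 6) (sd y.1.1), phi_mem_group Φ _ _⟩ : ↥(Cfsg.Lie.chevG2.group F)) *
        ⟨phi Φ (R 9) (sd y.1.2), phi_mem_group Φ _ _⟩ := by
      refine Subtype.ext (hX.symm.trans ?_)
      show phi Φ (R 6) (sd y.1.1) * phi Φ (R 9) (sd y.1.2) * td Φ (GeneralLinearGroup.det y.1.1) = _
      rw [(congrArg (td Φ) hd).trans (torus_vec_one Φ), mul_one]
      rfl
    rw [e]
    exact mul_mem (Subgroup.mem_sup_left ⟨_, rfl⟩) (Subgroup.mem_sup_right ⟨_, rfl⟩)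

theorem relIndex_sup (h2 : (2 : F) ≠ 0) :
    (L Φ (R 6) ⊔ L Φ (R 9)).relIndex (Subgroup.centralizer ({zG Φ} : Set ↥(Cfsg.Lie.chevG2.group F))) = 2 := by
  classical
  obtain ⟨ν, hν⟩ := FiniteField.exists_nonsquare (F := F) (fun h => h2 (by
    have := (ringChar.spec F 2).2 (by rw [h])
    exact_mod_cast this))
  have hν0 : ν ≠ 0 := fun h => hν (by rw [h]; exact IsSquare.zero)
  have sq_iff : ∀ u : Fˣ, u ∈ (powMonoidHom 2 : Fˣ →* Fˣ).range ↔ IsSquare (u : F) := fun u => by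
    refine ⟨fun ⟨k, hk⟩ => ⟨k, by rw [← hk, powMonoidHom_apply, Units.val_pow_eq_pow_val, pow_two]⟩, fun ⟨k, hk⟩ => ?_⟩
    have hk0 : k ≠ 0 := fun h => u.ne_zero (by rw [hk, h, mul_zero])
    exact ⟨Units.mk0 k hk0, Units.ext (by simp [hk, pow_two])⟩
  have hmul : ∀ a : F, a ≠ 0 → (IsSquare (a * ν) ↔ ¬ IsSquare a) := fun a ha => by
    rw [← quadraticChar_one_iff_isSquare (mul_ne_zero ha hν0), map_mul,
      quadraticChar_neg_one_iff_not_isSquare.2 hν, mul_neg_one, neg_eq_iff_eq_neg,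
      quadraticChar_neg_one_iff_not_isSquare]
  let a : Pair F := ⟨(diagOne (Units.mk0 ν hν0), diagOne (Units.mk0 ν hν0)), mem_Pair.2 rfl⟩
  have hC : ∀ x : Pair F, XiG Φ x ∈ Subgroup.centralizer ({zG Φ} : Set ↥(Cfsg.Lie.chevG2.group F)) := fun x => by
    rw [centralizer_zG Φ h2, Subgroup.mem_subgroupOf]
    exact ⟨x, rfl⟩
  rw [Subgroup.relIndex, Subgroup.index_eq_two_iff]
  refine ⟨⟨XiG Φ a, hC a⟩, fun b => ?_⟩
  have hb := Subgroup.mem_subgroupOf.1 ((centralizer_zG Φ h2).le b.2)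
  obtain ⟨x, hx⟩ := hb
  have hxb : b.1 = XiG Φ x := Subtype.ext hx.symm
  rw [Subgroup.mem_subgroupOf, Subgroup.mem_subgroupOf, Subgroup.coe_mul, hxb, ← map_mul,
    XiG_mem_sup_iff, XiG_mem_sup_iff, sq_iff, sq_iff]
  show Xor _ _
  rw [show GeneralLinearGroup.det (x * a).1.1 = GeneralLinearGroup.det x.1.1 * Units.mk0 ν hν0 by
    show GeneralLinearGroup.det (x.1.1 * diagOne _) = _
    rw [map_mul, det_diagOne], Units.val_mul, Units.val_mk0, hmul _ (Units.ne_zero _)]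
  by_cases h : IsSquare ((GeneralLinearGroup.det x.1.1 : Fˣ) : F)
  · exact Or.inr ⟨h, not_not_intro h⟩
  · exact Or.inl ⟨h, h⟩

include Φ in
theorem centralizer_all (hF : Odd (Fintype.card F)) (t : ↥(Cfsg.Lie.chevG2.group F)) (ht : orderOf t = 2) :
    Nat.card (Subgroup.centralizer ({t} : Set ↥(Cfsg.Lie.chevG2.group F))) =
        Fintype.card F ^ 2 * (Fintype.card F ^ 2 - 1) ^ 2 ∧
      ∃ L₁ L₂ : Subgroup ↥(Cfsg.Lie.chevG2.group F),
        Nonempty (L₁ ≃* Matrix.SpecialLinearGroup (Fin 2) F) ∧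
        Nonempty (L₂ ≃* Matrix.SpecialLinearGroup (Fin 2) F) ∧ (∀ x ∈ L₁, ∀ y ∈ L₂, x * y = y * x) ∧
        L₁ ⊓ L₂ = Subgroup.zpowers t ∧
        L₁ ⊔ L₂ ≤ Subgroup.centralizer ({t} : Set ↥(Cfsg.Lie.chevG2.group F)) ∧
        (L₁ ⊔ L₂).relIndex (Subgroup.centralizer ({t} : Set ↥(Cfsg.Lie.chevG2.group F))) = 2 := by
  have h2 := two_ne_zero_of_odd hF
  obtain ⟨g, hg⟩ := isConj_iff.1 (isConj_zG Φ hF t ht)
  set e := MulAut.conj g with he
  have hinj : Function.Injective e.toMonoidHom := e.injective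
  have hC : (Subgroup.centralizer ({zG Φ} : Set ↥(Cfsg.Lie.chevG2.group F))).map e.toMonoidHom =
      Subgroup.centralizer ({t} : Set ↥(Cfsg.Lie.chevG2.group F)) := by
    ext x
    rw [Subgroup.mem_map_equiv, Subgroup.mem_centralizer_singleton_iff, Subgroup.mem_centralizer_singleton_iff,
      ← e.injective.eq_iff, map_mul, map_mul, e.apply_symm_apply, show e (zG Φ) = t from hg]
  refine ⟨?_, (L Φ (R 6)).map e.toMonoidHom, (L Φ (R 9)).map e.toMonoidHom, ?_, ?_, ?_, ?_, ?_, ?_⟩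
  · rw [← hC, ← card_centralizer_zG Φ h2]
    exact Nat.card_congr (Subgroup.equivMapOfInjective _ _ hinj).toEquiv.symm
  · exact ⟨(Subgroup.equivMapOfInjective _ _ hinj).symm.trans (L_equiv Φ (phi_six_injective Φ))⟩
  · exact ⟨(Subgroup.equivMapOfInjective _ _ hinj).symm.trans (L_equiv Φ (phi_nine_injective Φ))⟩
  · rintro _ ⟨x, hx, rfl⟩ _ ⟨y, hy, rfl⟩
    rw [← map_mul, ← map_mul, L_comm Φ x hx y hy]
  · rw [← Subgroup.map_inf _ _ _ hinj, L_inf, MonoidHom.map_zpowers]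
    exact congrArg Subgroup.zpowers hg
  · rw [← Subgroup.map_sup, ← hC]
    exact Subgroup.map_mono (L_sup_le Φ h2)
  · rw [← Subgroup.map_sup, ← hC, Subgroup.relIndex_map_map_of_injective _ _ hinj, relIndex_sup Φ h2]

end CfsgLib.G2Odd
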