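import Cfsg.Agent.Lib.G2SL3.Hom
import Cfsg.Agent.Lib.Chev.SL2Hom

/-!
Two orthogonal rank one subgroups of the Chevalley group of type G2.
-/

set_option autoImplicit false
set_option linter.dupNamespace false

namespace CfsgLib.G2Odd

open Cfsg.Lie Matrix CfsgLib.Chev CfsgLib.Chev.RankOne

/-- A root given by its index. -/
abbrev R (k : Fin 12) : Fin Cfsg.Lie.chevG2.nroots := k

theorem rev_R : (R 6).rev = R 5 ∧ (R 9).rev = R 2 ∧ (R 7).rev = R 4 := by decide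

variable (Φ : Chev Cfsg.Lie.chevG2) {F : Type*} [Field F]

theorem coroot_table : ∀ (r : Fin 12) (k : Fin 2), (r = 6 ∨ r = 9) →
    (Cfsg.Lie.chevG2.coroot.getD r.val #[]).getD k.val 0 =
      (if r = 6 then ![(0 : ℤ), 1] else ![2, 3]) k := by
  decide

theorem coChar_six (t : Fˣ) : Φ.coChar (R 6) t = (![t⁻¹, t ^ 2] : Fin 2 → Fˣ) := by
  have hC : ∀ k : Fin 2, Φ.C (R 6) k = ![(0 : ℤ), 1] k := fun k => by
    have h := (Φ.coroot_eq (R 6) k).symm.trans (coroot_table 6 k (Or.inl rfl))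
    simpa using h
  have hA : ∀ i k : Fin 2, Φ.A i (Φ.p k) = ![![(2 : ℤ), -3], ![-1, 2]] i k := fun i k => by
    have h1 := CfsgLib.G2SL3.cartan_simple i k
    rw [← Φ.cartan_val i (Φ.p k), ← Φ.simple_val k]
    exact h1
  funext j
  show t ^ (∑ k, Φ.C (R 6) k * Φ.A k (Φ.p j)) = _
  have e : (∑ k, Φ.C (R 6) k * Φ.A k (Φ.p j)) = ![![(2 : ℤ), -3], ![-1, 2]] 1 j := by
    refine (Fin.sum_univ_two _).trans ?_
    erw [hC 0, hC 1, hA 0 j, hA 1 j]
    simp
  rw [e]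
  revert j
  show ∀ j : Fin 2, _
  intro j _
  fin_cases j <;> simp [zpow_ofNat]

theorem coChar_nine (t : Fˣ) : Φ.coChar (R 9) t = (![t, 1] : Fin 2 → Fˣ) := by
  have hC : ∀ k : Fin 2, Φ.C (R 9) k = ![(2 : ℤ), 3] k := fun k => by
    have h := (Φ.coroot_eq (R 9) k).symm.trans (coroot_table 9 k (Or.inr rfl))
    simpa using h
  have hA : ∀ i k : Fin 2, Φ.A i (Φ.p k) = ![![(2 : ℤ), -3], ![-1, 2]] i k := fun i k => by
    have h1 := CfsgLib.G2SL3.cartan_simple i k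
    rw [← Φ.cartan_val i (Φ.p k), ← Φ.simple_val k]
    exact h1
  funext j
  show t ^ (∑ k, Φ.C (R 9) k * Φ.A k (Φ.p j)) = _
  have e : (∑ k, Φ.C (R 9) k * Φ.A k (Φ.p j)) =
      2 * ![![(2 : ℤ), -3], ![-1, 2]] 0 j + 3 * ![![(2 : ℤ), -3], ![-1, 2]] 1 j := by
    refine (Fin.sum_univ_two _).trans ?_
    erw [hC 0, hC 1, hA 0 j, hA 1 j]
    simp
  rw [e]
  revert j
  show ∀ j : Fin 2, _
  intro j _
  fin_cases j <;> simp

/-- The two rank one homomorphisms. -/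
noncomputable def phi (r : Fin Cfsg.Lie.chevG2.nroots) : SpecialLinearGroup (Fin 2) F →* GL Cfsg.Lie.chevG2.Idx F :=
  (Φ.rankOne F r).hom

theorem phi_u (r : Fin Cfsg.Lie.chevG2.nroots) (t : F) : phi Φ r (u t) = Φ.toAlg.xg r t := hom_u _ t

theorem phi_l (r : Fin Cfsg.Lie.chevG2.nroots) (t : F) : phi Φ r (l t) = Φ.toAlg.xg r.rev t := hom_l _ t

theorem phi_mem_group (r : Fin Cfsg.Lie.chevG2.nroots) (g : SpecialLinearGroup (Fin 2) F) :
    phi Φ r g ∈ Cfsg.Lie.chevG2.group F := by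
  have h : (phi Φ r (F := F)).range ≤ Cfsg.Lie.chevG2.group F := by
    rw [phi, range_hom, Subgroup.closure_le]
    rintro _ (⟨t, rfl⟩ | ⟨t, rfl⟩)
    · exact Φ.toAlg.xg_mem_group r t
    · exact Φ.toAlg.xg_mem_group r.rev t
  exact h ⟨g, rfl⟩

theorem phi_diag (r : Fin Cfsg.Lie.chevG2.nroots) (g : SpecialLinearGroup (Fin 2) F) (a : Fˣ)
    (h10 : g.1 1 0 = 0) (h01 : g.1 0 1 = 0) (h00 : g.1 0 0 = a) :
    phi Φ r g = Φ.toAlg.torus (Φ.coChar r a) := by
  show (Φ.rankOne F r).f g = _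
  rw [f_of_zero _ h10 a h00, h01, zero_div, RankOne.x_zero, mul_one]
  exact Φ.hw_eq r a

theorem phi_injective {r : Fin Cfsg.Lie.chevG2.nroots} (hr : Φ.toTables.Pos r)
    (hh : ∀ t : Fˣ, Φ.coChar r t = 1 → t = 1) : Function.Injective (phi Φ r (F := F)) := by
  refine (injective_iff_map_eq_one _).2 fun g hg => ?_
  change (Φ.rankOne F r).f g = 1 at hg
  have hdet := g.2
  rw [Matrix.det_fin_two] at hdet
  by_cases hc : g.1 1 0 = 0
  · have ha : g.1 0 0 ≠ 0 := by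
      intro ha; rw [ha, hc] at hdet; simp at hdet
    set a := Units.mk0 _ ha
    rw [f_of_zero _ hc a rfl] at hg
    set b := g.1 0 1 / (a : F) with hb
    change Φ.hw r a * Φ.toAlg.xg r b = 1 at hg
    have hN : Φ.toAlg.xg r b ∈ Cfsg.Lie.chevG2.monomialSubgroup F := by
      rw [← inv_eq_of_mul_eq_one_right hg]
      exact inv_mem (Chev.H_le_N (Φ.hw_mem_H r a))
    have hb1 := Φ.eq_one_of_mem_U_of_mem_N (Φ.xg_mem_U hr b) hN
    rw [Φ.toAlg.xg_eq_one_iff] at hb1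
    rw [hb1, Φ.toAlg.xg_zero, mul_one, Φ.hw_eq] at hg
    have ha1 : a = 1 := by
      refine hh a (funext fun i => ?_)
      have := congrArg (fun x : GL Cfsg.Lie.chevG2.Idx F => x.1 (Sum.inr (Φ.p i)) (Sum.inr (Φ.p i))) hg
      simp only [Alg.torus_val, Units.val_one, Matrix.one_apply_eq] at this
      rw [Sys.torusMat, Matrix.diagonal_apply_eq] at this
      have e : (Φ.toSys.chi (Φ.coChar r a) (Φ.p i) : F) = 1 := this
      rw [Φ.toSys.chi_simple] at e
      exact Units.ext e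
    have e00 : g.1 0 0 = 1 := congrArg Units.val ha1
    have e01 : g.1 0 1 = 0 := by
      rw [hb, div_eq_zero_iff] at hb1
      exact hb1.resolve_right (Units.ne_zero a)
    have e11 : g.1 1 1 = 1 := by rw [e00, e01] at hdet; simpa using hdet
    refine Subtype.ext (Matrix.ext fun i j => ?_)
    fin_cases i <;> fin_cases j <;> simp [e00, e01, e11, hc]
  · exfalso
    rw [f_of_ne _ hc (Units.mk0 (-(g.1 1 0)⁻¹) (neg_ne_zero.mpr (inv_ne_zero hc))) rfl] at hg
    set t := Units.mk0 (-(g.1 1 0)⁻¹) (neg_ne_zero.mpr (inv_ne_zero hc))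
    set x1 := g.1 0 0 / g.1 1 0
    set x2 := g.1 1 1 / g.1 1 0
    change Φ.toAlg.xg r x1 * Φ.nw r t * Φ.toAlg.xg r x2 = 1 at hg
    have hn : Φ.nw r t = Φ.toAlg.xg r (-x1 - x2) := by
      rw [sub_eq_add_neg, Φ.toAlg.xg_add, ← Φ.toAlg.xg_inv, ← Φ.toAlg.xg_inv, eq_mul_inv_iff_mul_eq,
        eq_inv_iff_mul_eq_one]
      have := hg
      rw [mul_assoc, mul_eq_one_iff_eq_inv] at this
      rw [mul_eq_one_iff_inv_eq, ← this]
    have hN : Φ.toAlg.xg r (-x1 - x2) ∈ Cfsg.Lie.chevG2.monomialSubgroup F := hn ▸ Φ.nw_mem_N r t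
    have h1 := Φ.eq_one_of_mem_U_of_mem_N (Φ.xg_mem_U hr _) hN
    rw [h1, Φ.nw_eq_hw_mul, mul_eq_one_iff_eq_inv] at hn
    have h2 := Φ.nw_xg_self r (1 : F)
    have h3 : Φ.nw r (1 : Fˣ) = (Φ.hw r t)⁻¹ := by rw [hn, inv_inv]
    rw [h3, Φ.hw_eq, ← map_inv, Φ.toAlg.torus_xg] at h2
    exact Φ.toSys.rev_ne r (Φ.root_eq_of_xg_eq (mul_ne_zero (Units.ne_zero _) one_ne_zero) (mul_right_cancel h2)).symm

theorem phi_six_injective : Function.Injective (phi Φ (R 6) (F := F)) :=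
  phi_injective Φ (by show 12 ≤ 2 * 6; norm_num) fun t h => by
    rw [coChar_six] at h
    exact inv_eq_one.1 (congrFun h (0 : Fin 2))

theorem phi_nine_injective : Function.Injective (phi Φ (R 9) (F := F)) :=
  phi_injective Φ (by show 12 ≤ 2 * 9; norm_num) fun t h => by
    rw [coChar_nine] at h
    exact congrFun h (0 : Fin 2)

theorem N_zero_table : ∀ r s : Fin 12, (r = 6 ∨ r = 5) → (s = 9 ∨ s = 2) →
    ((Cfsg.Lie.chevG2.chain.getD r.val #[]).toList.filter fun e => decide (e.1 = s.val)) = [] := by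
  decide

theorem xg_comm (r s : Fin 12) (hr : r = 6 ∨ r = 5) (hs : s = 9 ∨ s = 2) (a b : F) :
    Commute (Φ.toAlg.xg (R r) a) (Φ.toAlg.xg (R s) b) := by
  refine Φ.toAlg.xg_commute ?_ ?_ a b
  · rcases hr with rfl | rfl <;> rcases hs with rfl | rfl <;> decide
  · by_contra h
    have := Φ.filter_eq (R r) (R s)
    rw [if_neg h, N_zero_table r s hr hs] at this
    exact absurd this (by simp)

theorem phi_comm (a b : SpecialLinearGroup (Fin 2) F) :
    Commute (phi Φ (R 6) a) (phi Φ (R 9) b) := by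
  have key : ∀ (r s : Fin Cfsg.Lie.chevG2.nroots),
      (∀ x y, Commute (Φ.toAlg.xg r x) (phi Φ s (F := F) y)) →
      (∀ x y, Commute (Φ.toAlg.xg r.rev x) (phi Φ s (F := F) y)) →
      ∀ a b, Commute (phi Φ r (F := F) a) (phi Φ s b) := by
    intro r s h1 h2 a b
    have h : (phi Φ r (F := F)).range ≤ Subgroup.centralizer {phi Φ s b} := by
      rw [phi, range_hom, Subgroup.closure_le]
      rintro _ (⟨t, rfl⟩ | ⟨t, rfl⟩) <;>
        rw [SetLike.mem_coe, Subgroup.mem_centralizer_singleton_iff]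
      · exact (h1 t b).eq
      · exact (h2 t b).eq
    exact Subgroup.mem_centralizer_singleton_iff.1 (h ⟨a, rfl⟩)
  have key2 : ∀ (r s : Fin Cfsg.Lie.chevG2.nroots) (x : F),
      (∀ y, Commute (Φ.toAlg.xg r x) (Φ.toAlg.xg s y)) →
      (∀ y, Commute (Φ.toAlg.xg r x) (Φ.toAlg.xg s.rev y)) →
      ∀ b, Commute (Φ.toAlg.xg r x) (phi Φ s (F := F) b) := by
    intro r s x h1 h2 b
    have h : (phi Φ s (F := F)).range ≤ Subgroup.centralizer {Φ.toAlg.xg r x} := by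
      rw [phi, range_hom, Subgroup.closure_le]
      rintro _ (⟨t, rfl⟩ | ⟨t, rfl⟩) <;>
        rw [SetLike.mem_coe, Subgroup.mem_centralizer_singleton_iff]
      · exact (h1 t).eq.symm
      · exact (h2 t).eq.symm
    exact (Subgroup.mem_centralizer_singleton_iff.1 (h ⟨b, rfl⟩)).symm
  obtain ⟨e6, e9, -⟩ := rev_R
  refine key _ _ (fun x y => key2 _ _ x ?_ ?_ y) (fun x y => key2 _ _ x ?_ ?_ y) a b
  · exact fun y => xg_comm Φ 6 9 (Or.inl rfl) (Or.inl rfl) x y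
  · rw [e9]; exact fun y => xg_comm Φ 6 2 (Or.inl rfl) (Or.inr rfl) x y
  · rw [e6]; exact fun y => xg_comm Φ 5 9 (Or.inr rfl) (Or.inl rfl) x y
  · rw [e6, e9]; exact fun y => xg_comm Φ 5 2 (Or.inr rfl) (Or.inr rfl) x y

/-- Conjugation by `diag(e, 1)`. -/
def dconj (e : Fˣ) : SpecialLinearGroup (Fin 2) F →* SpecialLinearGroup (Fin 2) F where
  toFun g := ⟨!![g.1 0 0, (e : F) * g.1 0 1; ((e⁻¹ : Fˣ) : F) * g.1 1 0, g.1 1 1], by
    have := g.2
    rw [Matrix.det_fin_two] at this ⊢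
    simp
    field_simp
    linear_combination this⟩
  map_one' := Subtype.ext (by ext i j; fin_cases i <;> fin_cases j <;> simp)
  map_mul' g h := Subtype.ext (by
    show _ = _ * _
    ext i j
    fin_cases i <;> fin_cases j <;>
      simp [Matrix.mul_apply, Fin.sum_univ_two] <;> field_simp)

theorem torus_phi (r : Fin Cfsg.Lie.chevG2.nroots) (c : Fin Cfsg.Lie.chevG2.rank → Fˣ) (g : SpecialLinearGroup (Fin 2) F) :
    Φ.toAlg.torus c * phi Φ r g = phi Φ r (dconj (Φ.toSys.chi c r) g) * Φ.toAlg.torus c := by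
  set e := Φ.toSys.chi c r
  have key : ((MulAut.conj (Φ.toAlg.torus c)).toMonoidHom.comp (phi Φ r (F := F))) = (phi Φ r).comp (dconj e) := by
    refine MonoidHom.eq_of_eqOn_dense RankOne.closure_u_w ?_
    have hu : ∀ t : F, Φ.toAlg.torus c * phi Φ r (u t) * (Φ.toAlg.torus c)⁻¹ = phi Φ r (dconj e (u t)) := by
      intro t
      rw [show dconj e (u t) = u ((e : F) * t) from Subtype.ext (by
        show !![_, _; _, _] = !![_, _; _, _]
        ext i j; fin_cases i <;> fin_cases j <;> simp [u]),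
        phi_u, phi_u, Φ.toAlg.torus_xg, mul_inv_cancel_right]
    have hl : ∀ t : F, Φ.toAlg.torus c * phi Φ r (l t) * (Φ.toAlg.torus c)⁻¹ = phi Φ r (dconj e (l t)) := by
      intro t
      rw [show dconj e (l t) = l (((e⁻¹ : Fˣ) : F) * t) from Subtype.ext (by
        show !![_, _; _, _] = !![_, _; _, _]
        ext i j; fin_cases i <;> fin_cases j <;> simp [l]),
        phi_l, phi_l, Φ.toAlg.torus_xg, mul_inv_cancel_right, Φ.toSys.chi_neg]
    rintro g (⟨t, rfl⟩ | rfl)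
    · exact hu t
    · have hw : (w : SpecialLinearGroup (Fin 2) F) = u 1 * l (-1) * u 1 := Subtype.ext (by
        show _ = _ * _ * _
        ext i j; fin_cases i <;> fin_cases j <;> simp [u, l, w, Matrix.mul_apply, Fin.sum_univ_two])
      simp only [MonoidHom.comp_apply, hw, map_mul]
      show Φ.toAlg.torus c * phi Φ r (u 1) * (Φ.toAlg.torus c)⁻¹ * (Φ.toAlg.torus c * phi Φ r (l (-1)) * (Φ.toAlg.torus c)⁻¹) *
        (Φ.toAlg.torus c * phi Φ r (u 1) * (Φ.toAlg.torus c)⁻¹) = _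
      rw [hu, hl]
  exact mul_inv_eq_iff_eq_mul.1 (DFunLike.congr_fun key g)

end CfsgLib.G2Odd
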