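import Cfsg.Agent.Lib.G2SL3.RegTorus

/-!
The centralizer in a Chevalley group of an arbitrary torus element.
-/

set_option autoImplicit false
set_option linter.dupNamespace false
set_option linter.unusedSectionVars false

namespace CfsgLib.G2Odd

open Cfsg.Lie Matrix CfsgLib.Chev CfsgLib.Chev.Chev

variable {D : ChevalleyDatum} (Φ : Chev D) {F : Type*} [Field F]

theorem mem_of_commute_US {c : Fin D.rank → Fˣ} {K : Subgroup (GL D.Idx F)}
    (hroot : ∀ r, Φ.toSys.chi c r = 1 → ∀ t : F, Φ.toAlg.xg r t ∈ K)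
    {S : Fin D.nroots → Prop} (hpos : ∀ r, S r → Φ.toTables.Pos r) (hcl : Φ.Closed S)
    {u : GL D.Idx F} (hu : u ∈ Φ.US F S) (h : Commute (Φ.toAlg.torus c) u) : u ∈ K := by
  classical
  obtain ⟨v, rfl⟩ := (Φ.mem_US_iff hpos hcl).1 hu
  have e := h.eq
  rw [CfsgLib.G2SL3.torus_prodL] at e
  have e' := Φ.prodL_injective (pairwise_rootList S) (fun r hr => hpos r (mem_rootList.mp hr))
    (mul_right_cancel e)
  refine Subgroup.list_prod_mem _ fun g hg => ?_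
  obtain ⟨r, hr, rfl⟩ := List.mem_map.mp hg
  by_cases hc : Φ.toSys.chi c r = 1
  · exact hroot r hc _
  have hv : v r = 0 := by
    have e2 : ((Φ.toSys.chi c r : F) - 1) * v r = 0 := by rw [sub_mul, one_mul, e' r hr, sub_self]
    exact (mul_eq_zero.1 e2).resolve_left (sub_ne_zero.2 fun h1 => hc (Units.ext h1))
  rw [hv, Φ.toAlg.xg_zero]
  exact K.one_mem

/-- The centralizer of a torus element lies in any subgroup with the torus, the root subgroups that the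
element centralizes and representatives of the Weyl elements that stabilize it. -/
theorem mem_of_commute_torus {c : Fin D.rank → Fˣ} {K : Subgroup (GL D.Idx F)}
    (hH : Φ.toAlg.torus c ∈ D.diagonalSubgroup F) (hHK : D.diagonalSubgroup F ≤ K)
    (hroot : ∀ r, Φ.toSys.chi c r = 1 → ∀ t : F, Φ.toAlg.xg r t ∈ K)
    (hW : ∀ π ∈ Φ.WL, (∀ r, Φ.toSys.chi c (π r) = Φ.toSys.chi c r) →
      ∃ n ∈ K, n ∈ D.monomialSubgroup F ∧ Φ.Mono n π)
    {g : GL D.Idx F} (hg : g ∈ D.group F) (h : Commute (Φ.toAlg.torus c) g) : g ∈ K := by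
  set t := Φ.toAlg.torus c with ht
  obtain ⟨b, hb, n, hn, π, hπ, hm, u, hu, rfl⟩ := Φ.exists_normal_form hg
  have h2 : t * n * t⁻¹ * n⁻¹ ∈ D.diagonalSubgroup F := by
    rw [show t * n * t⁻¹ * n⁻¹ = t * (n * t⁻¹ * n⁻¹) by group]
    exact mul_mem hH (Φ.H_conj_mem hn (inv_mem hH))
  have htb : t * b * t⁻¹ * (t * n * t⁻¹ * n⁻¹) ∈ D.borelSubgroup F :=
    mul_mem (mul_mem (mul_mem (H_le_B hH) hb) (inv_mem (H_le_B hH))) (H_le_B h2)
  have htu : t * u * t⁻¹ ∈ Φ.Uneg F π :=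
    (Subgroup.mem_normalizer_iff.1 (Φ.H_le_normalizer_US _ hH) u).1 hu
  have e : t * b * t⁻¹ * (t * n * t⁻¹ * n⁻¹) * n * (t * u * t⁻¹) = b * n * u := by
    calc _ = t * (b * n * u) * t⁻¹ := by group
      _ = _ := by rw [h.eq, mul_inv_cancel_right]
  obtain ⟨e1, e2⟩ := Φ.normal_form_unique hm htb hb htu hu e
  have huK : u ∈ K := mem_of_commute_US Φ hroot (fun r hr => hr.1) (Φ.closed_pos_neg hπ) hu
    (mul_inv_eq_iff_eq_mul.1 e2)
  obtain ⟨v, hv, x, hx, rfl⟩ := Φ.mem_B_iff.1 hb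
  have hv' : t * v * t⁻¹ ∈ D.posUnipotent F :=
    (Subgroup.mem_normalizer_iff.1 (Φ.H_le_normalizer_U hH) v).1 hv
  have htx : t * x * t⁻¹ = x := by rw [(Φ.H_comm hH hx).eq, mul_inv_cancel_right]
  have e3 : t * v * t⁻¹ * (x * (t * n * t⁻¹ * n⁻¹)) = v * x := by
    conv_rhs => rw [← e1]
    calc _ = t * v * t⁻¹ * ((t * x * t⁻¹) * (t * n * t⁻¹ * n⁻¹)) := by rw [htx]
      _ = _ := by group
  have hUN : v⁻¹ * (t * v * t⁻¹) = x * (x * (t * n * t⁻¹ * n⁻¹))⁻¹ := by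
    calc v⁻¹ * (t * v * t⁻¹)
        = v⁻¹ * (t * v * t⁻¹ * (x * (t * n * t⁻¹ * n⁻¹))) * (x * (t * n * t⁻¹ * n⁻¹))⁻¹ := by group
      _ = _ := by rw [e3]; group
  have hv1 := Φ.eq_one_of_mem_U_of_mem_N (mul_mem (inv_mem hv) hv')
    (hUN ▸ H_le_N (mul_mem hx (inv_mem (mul_mem hx h2))))
  have hvc : t * v * t⁻¹ = v := (inv_mul_eq_one.1 hv1).symm
  have hvK : v ∈ K := by
    rw [Φ.posUnipotent_eq_US] at hv
    exact mem_of_commute_US Φ hroot (fun r hr => hr) Φ.closed_pos hv (mul_inv_eq_iff_eq_mul.1 hvc)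
  rw [hvc] at e3
  have hn1 : t * n * t⁻¹ * n⁻¹ = 1 := by simpa using mul_left_cancel e3
  have htn : t * n * t⁻¹ = n := mul_inv_eq_one.1 hn1
  have hπc : ∀ r, Φ.toSys.chi c (π r) = Φ.toSys.chi c r := fun r => by
    obtain ⟨a, ha, ha1, -⟩ := hm.1 r
    refine Units.ext ?_
    have e4 : t * Φ.toAlg.xg (π r) a * t⁻¹ = Φ.toAlg.xg (π r) (a * (Φ.toSys.chi c r : F)) := by
      have h1 := ha1 (1 : F)
      rw [mul_one] at h1
      calc t * Φ.toAlg.xg (π r) a * t⁻¹ = t * (n * Φ.toAlg.xg r (1 : F) * n⁻¹) * t⁻¹ := by rw [h1]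
        _ = (t * n * t⁻¹) * (t * Φ.toAlg.xg r (1 : F) * t⁻¹) * (t * n * t⁻¹)⁻¹ := by group
        _ = _ := by rw [htn, Φ.toAlg.torus_xg, mul_inv_cancel_right, mul_one, ha1]
    rw [Φ.toAlg.torus_xg, mul_inv_cancel_right] at e4
    exact mul_left_cancel₀ ha (by rw [mul_comm]; exact Φ.toAlg.xg_injective _ e4)
  obtain ⟨n0, hn0K, hn0, hm0⟩ := hW π hπ hπc
  obtain ⟨σ, hσ, hσ'⟩ := Φ.exists_mono hn0
  have hσπ : σ = π := Mono.unique Φ hσ hm0
  subst hσπ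
  have hd : n0⁻¹ * n ∈ D.diagonalSubgroup F :=
    Φ.mem_H_of_mono_one (mul_mem (inv_mem hn0) hn) (by simpa using Mono.mul Φ hσ' hm)
  rw [show v * x * n * u = v * x * (n0 * (n0⁻¹ * n)) * u by group]
  exact mul_mem (mul_mem (mul_mem hvK (hHK hx)) (mul_mem hn0K (hHK hd))) huK

end CfsgLib.G2Odd
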