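import Cfsg.Agent.Lib.G2Odd.Pairs
import Cfsg.Agent.Lib.G2Odd.TorusCent
import Cfsg.Agent.Lib.Chev.WeylCentre

/-!
The centralizer of the involution `h(-1, 1)` of the Chevalley group of type G2.
-/

set_option autoImplicit false
set_option linter.dupNamespace false

namespace CfsgLib.G2Odd

open Cfsg.Lie Matrix CfsgLib.Chev CfsgLib.Chev.RankOne
open CfsgLib.G2SL3 (coords)

variable (Φ : Chev Cfsg.Lie.chevG2) {F : Type*} [Field F]

theorem V_coords (r : Fin 12) (j : Fin 2) : Φ.V (R r) j = coords r j := by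
  have hlin : ∀ i : Fin 2, Cfsg.Lie.chevG2.cartan i.val r.val =
      ![![(2 : ℤ), -3], ![-1, 2]] i 0 * Φ.V (R r) (0 : Fin 2) + ![![(2 : ℤ), -3], ![-1, 2]] i 1 * Φ.V (R r) (1 : Fin 2) := by
    intro i
    have hA : ∀ k : Fin 2, Φ.A i (Φ.p k) = ![![(2 : ℤ), -3], ![-1, 2]] i k := fun k => by
      have h1 := CfsgLib.G2SL3.cartan_simple i k
      have h2 := Φ.cartan_val i (Φ.p k)
      have h3 := Φ.simple_val k
      rw [← h2, ← h3]
      exact h1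
    refine (Φ.cartan_val i (R r)).trans ((Φ.A_lin i (R r)).trans ?_)
    refine (Fin.sum_univ_two _).trans ?_
    erw [hA 0, hA 1]
    ring
  have h0 := hlin 0
  have h1 := hlin 1
  obtain ⟨c0, c1⟩ := CfsgLib.G2SL3.cartan_roots r
  simp only [Fin.val_zero, Fin.val_one, Matrix.cons_val_zero, Matrix.cons_val_one] at h0 h1
  fin_cases j <;> simp at * <;> omega

theorem simple_table : Cfsg.Lie.chevG2.simple 0 = 7 ∧ Cfsg.Lie.chevG2.simple 1 = 6 := by decide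

theorem p_zero : Φ.p (0 : Fin 2) = R 7 :=
  Fin.ext ((Φ.simple_val (0 : Fin 2)).symm.trans simple_table.1)

theorem p_one : Φ.p (1 : Fin 2) = R 6 :=
  Fin.ext ((Φ.simple_val (1 : Fin 2)).symm.trans simple_table.2)

theorem W_coords {π : Equiv.Perm (Fin Cfsg.Lie.chevG2.nroots)} (hπ : π ∈ Φ.W) (r : Fin 12) (j : Fin 2) :
    coords (π (R r)) j = coords r 0 * coords (π (R 7)) j + coords r 1 * coords (π (R 6)) j := by
  have h := Φ.W_lin hπ (R r) j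
  refine (V_coords Φ (π (R r)) j).symm.trans (h.trans ((Fin.sum_univ_two _).trans ?_))
  erw [p_zero, p_one, V_coords, V_coords, V_coords, V_coords]

theorem W_eq_of_simple {π σ : Equiv.Perm (Fin Cfsg.Lie.chevG2.nroots)} (hπ : π ∈ Φ.W) (hσ : σ ∈ Φ.W)
    (h7 : π (R 7) = σ (R 7)) (h6 : π (R 6) = σ (R 6)) : π = σ := by
  refine (inv_mul_eq_one.1 (Φ.W_eq_one_of_fix (mul_mem (inv_mem hπ) hσ) ?_))
  show ∀ i : Fin 2, _
  intro i
  rw [Equiv.Perm.mul_apply]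
  fin_cases i
  · show π⁻¹ (σ (Φ.p (0 : Fin 2))) = Φ.p (0 : Fin 2)
    rw [p_zero, ← h7]
    exact π.symm_apply_apply _
  · show π⁻¹ (σ (Φ.p (1 : Fin 2))) = Φ.p (1 : Fin 2)
    rw [p_one, ← h6]
    exact π.symm_apply_apply _

theorem stab_table : ∀ a b : Fin 12, coords a 0 % 2 = 1 → coords b 0 % 2 = 0 →
    (∀ s : Fin 12, ∃ t : Fin 12, coords t 0 = coords s 0 * coords a 0 + coords s 1 * coords b 0 ∧
      coords t 1 = coords s 0 * coords a 1 + coords s 1 * coords b 1) →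
    (a = 7 ∧ b = 6) ∨ (a = 3 ∧ b = 6) ∨ (a = 8 ∧ b = 5) ∨ (a = 4 ∧ b = 5) := by
  decide +kernel

theorem nine_three : ∀ a : Fin 12, a = 7 ∨ a = 3 → a ≠ 7 → a = 3 := by decide

/-- The parameters of the involution. -/
def zc (F : Type*) [Field F] : Fin 2 → Fˣ := ![-1, 1]

theorem chi_zc (r : Fin 12) :
    Φ.toSys.chi (zc F) (R r) = if coords r 0 % 2 = 0 then 1 else -1 := by
  rw [CfsgLib.G2SL3.chi_eq Φ (zc F) r]
  simp only [zc, Matrix.cons_val_zero, Matrix.cons_val_one, _root_.one_zpow, mul_one]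
  split_ifs with h
  · exact Even.neg_one_zpow (Int.even_iff.2 h)
  · exact Odd.neg_one_zpow (Int.odd_iff.2 (by omega))

theorem neg_one_ne (h2 : (2 : F) ≠ 0) : (-1 : Fˣ) ≠ 1 := fun h => h2 (by
  have := congrArg Units.val h
  simp at this
  linear_combination -this)

theorem parity_of_chi_eq (h2 : (2 : F) ≠ 0) {a b : Fin 12}
    (h : Φ.toSys.chi (zc F) (R a) = Φ.toSys.chi (zc F) (R b)) : coords a 0 % 2 = coords b 0 % 2 := by
  rw [chi_zc, chi_zc] at h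
  have := neg_one_ne h2
  split_ifs at h with ha hb hb
  · omega
  · exact absurd h.symm this
  · exact absurd h this
  · omega

theorem W_cases {π : Equiv.Perm (Fin Cfsg.Lie.chevG2.nroots)} (hπ : π ∈ Φ.W)
    (h7 : coords (π (R 7)) 0 % 2 = 1) (h6 : coords (π (R 6)) 0 % 2 = 0) :
    (π (R 7) = R 7 ∧ π (R 6) = R 6) ∨ (π (R 7) = R 3 ∧ π (R 6) = R 6) ∨
      (π (R 7) = R 8 ∧ π (R 6) = R 5) ∨ (π (R 7) = R 4 ∧ π (R 6) = R 5) :=
  stab_table (π (R 7)) (π (R 6)) h7 h6 fun s => ⟨π (R s), W_coords Φ hπ s 0, W_coords Φ hπ s 1⟩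

theorem phi_w (r : Fin Cfsg.Lie.chevG2.nroots) : phi Φ r (F := F) w = Φ.nw r 1 := by
  show (Φ.rankOne F r).f w = _
  have h := (Φ.rankOne F r).f_w_mul 1
  rw [mul_one, RankOne.f_one, mul_one] at h
  exact h

theorem phi_six_mem (g : SpecialLinearGroup (Fin 2) F) : phi Φ (R 6) g ∈ (Xi Φ).range := by
  refine ⟨⟨(Matrix.SpecialLinearGroup.toGL g, 1), mem_Pair.2 (Units.ext (by simp [g.2]))⟩, ?_⟩
  show phi Φ (R 6) (sd (Matrix.SpecialLinearGroup.toGL g)) * phi Φ (R 9) (sd 1) *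
    td Φ (GeneralLinearGroup.det (Matrix.SpecialLinearGroup.toGL g)) = _
  have hd : GeneralLinearGroup.det (Matrix.SpecialLinearGroup.toGL g) = 1 := Units.ext (by simp [g.2])
  rw [(congrArg (td Φ) hd).trans (torus_vec_one Φ), sd_one, map_one, mul_one, mul_one]
  congr 1
  refine Subtype.ext ?_
  show g.1 * !![(((GeneralLinearGroup.det (Matrix.SpecialLinearGroup.toGL g))⁻¹ : Fˣ) : F), 0; 0, 1] = g.1
  rw [hd]
  simp [← Matrix.one_fin_two]

theorem phi_nine_mem (g : SpecialLinearGroup (Fin 2) F) : phi Φ (R 9) g ∈ (Xi Φ).range := by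
  refine ⟨⟨(1, Matrix.SpecialLinearGroup.toGL g), mem_Pair.2 (Units.ext (by simp [g.2]))⟩, ?_⟩
  show phi Φ (R 6) (sd 1) * phi Φ (R 9) (sd (Matrix.SpecialLinearGroup.toGL g)) *
    td Φ (GeneralLinearGroup.det (1 : GL (Fin 2) F)) = _
  have hd : GeneralLinearGroup.det (Matrix.SpecialLinearGroup.toGL g) = 1 := Units.ext (by simp [g.2])
  rw [sd_one, map_one, one_mul, (congrArg (td Φ) (map_one GeneralLinearGroup.det)).trans (torus_vec_one Φ), mul_one]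
  congr 1
  refine Subtype.ext ?_
  show g.1 * !![(((GeneralLinearGroup.det (Matrix.SpecialLinearGroup.toGL g))⁻¹ : Fˣ) : F), 0; 0, 1] = g.1
  rw [hd]
  simp [← Matrix.one_fin_two]

/-- The diagonal matrix `diag(d, 1)`. -/
def diagOne (d : Fˣ) : GL (Fin 2) F :=
  GeneralLinearGroup.mkOfDetNeZero !![(d : F), 0; 0, 1] (by simp)

theorem det_diagOne (d : Fˣ) : GeneralLinearGroup.det (diagOne d) = d :=
  Units.ext (by simp [diagOne])

theorem sd_diagOne (d : Fˣ) : sd (diagOne d) = 1 := by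
  refine Subtype.ext ?_
  show (diagOne d).1 * !![(((GeneralLinearGroup.det (diagOne d))⁻¹ : Fˣ) : F), 0; 0, 1] = 1
  rw [det_diagOne]
  simp [diagOne, Matrix.one_fin_two]

theorem Xi_diagOne (d : Fˣ) : Xi Φ ⟨(diagOne d, diagOne d), mem_Pair.2 rfl⟩ = td Φ d := by
  show phi Φ (R 6) (sd (diagOne d)) * phi Φ (R 9) (sd (diagOne d)) * td Φ (GeneralLinearGroup.det (diagOne d)) = _
  rw [sd_diagOne, map_one, map_one, one_mul, one_mul, det_diagOne]

theorem torus_mem (c : Fin 2 → Fˣ) : Φ.toAlg.torus c ∈ (Xi Φ (F := F)).range := by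
  let g : SpecialLinearGroup (Fin 2) F := ⟨!![(c 0 : F), 0; 0, ((c 0)⁻¹ : Fˣ)], by simp [Matrix.det_fin_two]⟩
  have hc : c = ![c 0, c 1] := funext fun i => by fin_cases i <;> rfl
  have e : Φ.toAlg.torus c = phi Φ (R 9) g * td Φ (c 1) := by
    rw [phi_nine_diag Φ g (c 0) rfl rfl rfl, td, torus_vec_mul, mul_one, one_mul]
    exact congrArg Φ.toAlg.torus hc
  rw [e]
  exact mul_mem (phi_nine_mem Φ g) ⟨_, Xi_diagOne Φ (c 1)⟩

theorem H_le_range : Cfsg.Lie.chevG2.diagonalSubgroup F ≤ (Xi Φ (F := F)).range := fun h hh => by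
  obtain ⟨c, rfl⟩ := Φ.exists_torus_of_mem_H hh
  exact torus_mem Φ c

/-- The central involution. -/
noncomputable def zel : GL Cfsg.Lie.chevG2.Idx F := Φ.toAlg.torus (zc F)

theorem exists_pair_zel : ∃ x : Pair F, Xi Φ x = zel Φ ∧ ∀ y : Pair F, Commute x y := by
  refine ⟨⟨(scalarGL F (-1), 1), mem_Pair.2 (Units.ext (by simp [scalarGL, Matrix.det_fin_two]))⟩, ?_, fun y => ?_⟩
  · rw [Xi_scalar Φ _ (-1) 1 (by simp [scalarGL]) (by simp), inv_one, mul_one]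
    rfl
  · refine Subtype.ext (Prod.ext (Units.ext ?_) ?_)
    · show (scalarGL F (-1)).1 * y.1.1.1 = y.1.1.1 * (scalarGL F (-1)).1
      simp [scalarGL]
    · exact (one_mul _).trans (mul_one _).symm

theorem zel_mem_range : zel Φ (F := F) ∈ (Xi Φ).range := torus_mem Φ _

theorem commute_zel {g : GL Cfsg.Lie.chevG2.Idx F} (hg : g ∈ (Xi Φ).range) : Commute (zel Φ) g := by
  obtain ⟨y, rfl⟩ := hg
  obtain ⟨x, hx, hc⟩ := exists_pair_zel Φ (F := F)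
  rw [← hx]
  exact (hc y).map _

theorem even_roots : ∀ r : Fin 12, coords r 0 % 2 = 0 →
    r = 6 ∨ r = 9 ∨ r = Fin.rev 6 ∨ r = Fin.rev 9 := by decide

theorem root_mem (h2 : (2 : F) ≠ 0) (r : Fin 12) (h : Φ.toSys.chi (zc F) (R r) = 1) (t : F) :
    Φ.toAlg.xg (R r) t ∈ (Xi Φ).range := by
  rw [chi_zc] at h
  have he : coords r 0 % 2 = 0 := by
    by_contra hn
    rw [if_neg hn] at h
    exact neg_one_ne h2 h
  rcases even_roots r he with rfl | rfl | rfl | rfl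
  · rw [← phi_u]; exact phi_six_mem Φ _
  · rw [← phi_u]; exact phi_nine_mem Φ _
  · show Φ.toAlg.xg (R 6).rev t ∈ _
    rw [← phi_l]; exact phi_six_mem Φ _
  · show Φ.toAlg.xg (R 9).rev t ∈ _
    rw [← phi_l]; exact phi_nine_mem Φ _

theorem mono_commute {n : GL Cfsg.Lie.chevG2.Idx F} {π : Equiv.Perm (Fin Cfsg.Lie.chevG2.nroots)}
    (hm : Φ.Mono n π) (s : Fin Cfsg.Lie.chevG2.nroots) (h : Commute n (Φ.toAlg.xg s 1)) : π s = s := by
  obtain ⟨a, ha, a1, -⟩ := hm.1 s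
  have e := a1 1
  rw [h.eq, mul_inv_cancel_right, mul_one] at e
  exact (Φ.root_eq_of_xg_eq one_ne_zero e).symm

theorem mono_chi {D : ChevalleyDatum} (Ψ : Chev D) {c : Fin D.rank → Fˣ} {n : GL D.Idx F}
    {π : Equiv.Perm (Fin D.nroots)} (hm : Ψ.Mono n π) (h : Commute (Ψ.toAlg.torus c) n) (r : Fin D.nroots) :
    Ψ.toSys.chi c (π r) = Ψ.toSys.chi c r := by
  obtain ⟨a, ha, a1, -⟩ := hm.1 r
  refine Units.ext ?_
  set z := Ψ.toAlg.torus c
  have e : z * Ψ.toAlg.xg (π r) a * z⁻¹ = Ψ.toAlg.xg (π r) (a * (Ψ.toSys.chi c r : F)) := by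
    have h1 := a1 (1 : F)
    rw [mul_one] at h1
    calc z * Ψ.toAlg.xg (π r) a * z⁻¹ = z * (n * Ψ.toAlg.xg r (1 : F) * n⁻¹) * z⁻¹ := by rw [h1]
      _ = (z * n * z⁻¹) * (z * Ψ.toAlg.xg r (1 : F) * z⁻¹) * (z * n * z⁻¹)⁻¹ := by group
      _ = _ := by rw [h.eq, mul_inv_cancel_right, Ψ.toAlg.torus_xg, mul_inv_cancel_right, mul_one, a1]
  rw [Ψ.toAlg.torus_xg, mul_inv_cancel_right] at e
  exact mul_left_cancel₀ ha (by rw [mul_comm]; exact Ψ.toAlg.xg_injective _ e)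

theorem nw_six_mem : Φ.nw (R 6) (1 : Fˣ) ∈ (Xi Φ).range := phi_w Φ (F := F) (R 6) ▸ phi_six_mem Φ w

theorem nw_nine_mem : Φ.nw (R 9) (1 : Fˣ) ∈ (Xi Φ).range := phi_w Φ (F := F) (R 9) ▸ phi_nine_mem Φ w

theorem mono_six (h2 : (2 : F) ≠ 0) : ∃ π ∈ Φ.W, Φ.Mono (Φ.nw (R 6) (1 : Fˣ)) π ∧
    π (R 7) = R 8 ∧ π (R 6) = R 5 := by
  obtain ⟨π, hW, hm, -⟩ := Φ.exists_monoW (F := F) (Φ.nw_mem_N (R 6) 1)
  have hc := mono_chi Φ hm (commute_zel Φ (nw_six_mem Φ))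
  have h9 : π (R 9) = R 9 := mono_commute Φ hm _ (by
    rw [← phi_w, ← phi_u]
    exact phi_comm Φ _ _)
  have h6 : π (R 6) = R 5 := by
    obtain ⟨a, ha, a1, -⟩ := hm.1 (R 6)
    have e := a1 1
    rw [Φ.nw_xg_self, mul_inv_cancel_right, (rev_R).1] at e
    exact (Φ.root_eq_of_xg_eq (neg_ne_zero.2 one_ne_zero) e).symm
  refine ⟨π, hW, hm, ?_, h6⟩
  have p7 : coords (π (R 7)) 0 % 2 = 1 := (parity_of_chi_eq Φ h2 (hc (R 7))).trans (by decide)
  have p6 : coords (π (R 6)) 0 % 2 = 0 := (parity_of_chi_eq Φ h2 (hc (R 6))).trans (by decide)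
  rcases W_cases Φ hW p7 p6 with ⟨-, b⟩ | ⟨-, b⟩ | ⟨a, -⟩ | ⟨a, -⟩
  · exact absurd (b.symm.trans h6) (by decide)
  · exact absurd (b.symm.trans h6) (by decide)
  · exact a
  · have e := W_coords Φ hW 9 0
    rw [h9, a, h6] at e
    exact absurd e (by decide)

theorem mono_nine (h2 : (2 : F) ≠ 0) : ∃ π ∈ Φ.W, Φ.Mono (Φ.nw (R 9) (1 : Fˣ)) π ∧
    π (R 7) = R 3 ∧ π (R 6) = R 6 := by
  obtain ⟨π, hW, hm, -⟩ := Φ.exists_monoW (F := F) (Φ.nw_mem_N (R 9) 1)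
  have hc := mono_chi Φ hm (commute_zel Φ (nw_nine_mem Φ))
  have h6 : π (R 6) = R 6 := mono_commute Φ hm _ (by
    rw [← phi_w, ← phi_u]
    exact (phi_comm Φ _ _).symm)
  have h9 : π (R 9) = R 2 := by
    obtain ⟨a, ha, a1, -⟩ := hm.1 (R 9)
    have e := a1 1
    rw [Φ.nw_xg_self, mul_inv_cancel_right, (rev_R).2.1] at e
    exact (Φ.root_eq_of_xg_eq (neg_ne_zero.2 one_ne_zero) e).symm
  refine ⟨π, hW, hm, ?_, h6⟩
  have p7 : coords (π (R 7)) 0 % 2 = 1 := (parity_of_chi_eq Φ h2 (hc (R 7))).trans (by decide)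
  have p6 : coords (π (R 6)) 0 % 2 = 0 := (parity_of_chi_eq Φ h2 (hc (R 6))).trans (by decide)
  rcases W_cases Φ hW p7 p6 with ⟨a, -⟩ | ⟨a, -⟩ | ⟨-, b⟩ | ⟨-, b⟩
  · have e := W_coords Φ hW 9 0
    rw [h9, a, h6] at e
    exact absurd e (by decide)
  · exact a
  · exact absurd (b.symm.trans h6) (by decide)
  · exact absurd (b.symm.trans h6) (by decide)

/-- The centralizer of the central involution. -/
theorem mem_range_of_commute (h2 : (2 : F) ≠ 0) {g : GL Cfsg.Lie.chevG2.Idx F}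
    (hg : g ∈ Cfsg.Lie.chevG2.group F) (h : Commute (zel Φ) g) : g ∈ (Xi Φ).range := by
  refine mem_of_commute_torus Φ (CfsgLib.G2SL3.torus_mem_H_G2 Φ (zc F)) (H_le_range Φ)
    (fun r hr t => root_mem Φ h2 r hr t) (fun π hπ hc => ?_) hg h
  have hW := Φ.mem_W_of_mem_WL hπ
  have p7 : coords (π (R 7)) 0 % 2 = 1 := (parity_of_chi_eq Φ h2 (hc (R 7))).trans (by decide)
  have p6 : coords (π (R 6)) 0 % 2 = 0 := (parity_of_chi_eq Φ h2 (hc (R 6))).trans (by decide)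
  obtain ⟨σ, sW, sm, s7, s6⟩ := mono_six Φ h2
  obtain ⟨τ, tW, tm, t7, t6⟩ := mono_nine Φ h2
  rcases W_cases Φ hW p7 p6 with ⟨a, b⟩ | ⟨a, b⟩ | ⟨a, b⟩ | ⟨a, b⟩
  · rw [W_eq_of_simple Φ hW (one_mem _) a b]
    exact ⟨1, one_mem _, one_mem _, Chev.Mono.one Φ⟩
  · rw [W_eq_of_simple Φ hW tW (a.trans t7.symm) (b.trans t6.symm)]
    exact ⟨_, nw_nine_mem Φ, Φ.nw_mem_N _ _, tm⟩
  · rw [W_eq_of_simple Φ hW sW (a.trans s7.symm) (b.trans s6.symm)]
    exact ⟨_, nw_six_mem Φ, Φ.nw_mem_N _ _, sm⟩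
  · have e6 : π (R 6) = (σ * τ) (R 6) := by rw [Equiv.Perm.mul_apply, t6, s6, b]
    have e7 : π (R 7) = (σ * τ) (R 7) := by
      rw [Equiv.Perm.mul_apply, t7, a]
      have u0 := W_coords Φ sW 3 0
      have u1 := W_coords Φ sW 3 1
      rw [s7, s6] at u0 u1
      exact (three_table _ u0 u1).symm
    rw [W_eq_of_simple Φ hW (mul_mem sW tW) e7 e6]
    exact ⟨_, mul_mem (nw_six_mem Φ) (nw_nine_mem Φ), mul_mem (Φ.nw_mem_N _ _) (Φ.nw_mem_N _ _), Chev.Mono.mul Φ sm tm⟩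
where
  three_table : ∀ t : Fin 12, coords t 0 = coords 3 0 * coords 8 0 + coords 3 1 * coords 5 0 →
      coords t 1 = coords 3 0 * coords 8 1 + coords 3 1 * coords 5 1 → t = 4 := by decide

end CfsgLib.G2Odd
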