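import Cfsg.Agent.Lib.G2Odd.Centralizer
import Mathlib.NumberTheory.LegendreSymbol.QuadraticChar.Basic

/-!
The involutions in the centralizer of the central involution are conjugate to it.
-/

set_option autoImplicit false
set_option linter.dupNamespace false

namespace CfsgLib.G2Odd

open Cfsg.Lie Matrix CfsgLib.Chev CfsgLib.Chev.RankOne
open CfsgLib.G2SL3 (coords)

variable (Φ : Chev Cfsg.Lie.chevG2) {F : Type*} [Field F]

/-- Conjugacy under the Chevalley group. -/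
def Cj (x y : GL Cfsg.Lie.chevG2.Idx F) : Prop := ∃ g ∈ Cfsg.Lie.chevG2.group F, g * x * g⁻¹ = y

theorem Cj.trans {x y z : GL Cfsg.Lie.chevG2.Idx F} (h : Cj x y) (h' : Cj y z) : Cj x z := by
  obtain ⟨g, hg, rfl⟩ := h
  obtain ⟨g', hg', rfl⟩ := h'
  exact ⟨g' * g, mul_mem hg' hg, by group⟩

theorem Cj.symm {x y : GL Cfsg.Lie.chevG2.Idx F} (h : Cj x y) : Cj y x := by
  obtain ⟨g, hg, rfl⟩ := h
  exact ⟨g⁻¹, inv_mem hg, by group⟩

theorem cj_Xi {x y : Pair F} (g : Pair F) (h : g * x * g⁻¹ = y) : Cj (Xi Φ x) (Xi Φ y) :=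
  ⟨Xi Φ g, Xi_mem_group Φ g, by rw [← map_inv, ← map_mul, ← map_mul, h]⟩

/-- The matrix with trace zero and determinant `d`. -/
def Jd (d : Fˣ) : GL (Fin 2) F :=
  GeneralLinearGroup.mkOfDetNeZero !![0, -(d : F); 1, 0] (by simp)

theorem det_Jd (d : Fˣ) : GeneralLinearGroup.det (Jd d) = d :=
  Units.ext (by simp [Jd, Matrix.det_fin_two])

/-- The pair of two such matrices. -/
noncomputable def E (d : Fˣ) : GL Cfsg.Lie.chevG2.Idx F := Xi Φ ⟨(Jd d, Jd d), mem_Pair.2 rfl⟩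

variable [Finite F]

theorem exists_sq_add (h2 : (2 : F) ≠ 0) {d : F} (hd : d ≠ 0) (c : F) : ∃ u y : F, u ^ 2 + d * y ^ 2 = c := by
  classical
  haveI := Fintype.ofFinite F
  have hodd : Fintype.card F % 2 = 1 :=
    FiniteField.odd_card_of_char_ne_two fun h => h2 (by
      have := (ringChar.spec F 2).2 (by rw [h])
      exact_mod_cast this)
  obtain ⟨u, y, h⟩ := FiniteField.exists_root_sum_quadratic (R := F)
    (f := Polynomial.X ^ 2 - Polynomial.C c) (g := Polynomial.C d * Polynomial.X ^ 2)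
    (Polynomial.degree_X_pow_sub_C (by norm_num) c) (Polynomial.degree_C_mul_X_pow 2 hd) hodd
  refine ⟨u, y, ?_⟩
  simp at h
  linear_combination h

theorem exists_conj_Jd (h2 : (2 : F) ≠ 0) (A : GL (Fin 2) F) (htr : A.1 1 1 = -A.1 0 0) :
    ∃ P : SpecialLinearGroup (Fin 2) F,
      Matrix.SpecialLinearGroup.toGL P * Jd (GeneralLinearGroup.det A) * (Matrix.SpecialLinearGroup.toGL P)⁻¹ = A := by
  set a := A.1 0 0 with ha
  set b := A.1 0 1 with hb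
  set c := A.1 1 0 with hc
  set d : F := ((GeneralLinearGroup.det A : Fˣ) : F) with hd
  have hdv : d = -a * a - b * c := by
    rw [hd, GeneralLinearGroup.val_det_apply, Matrix.det_fin_two, htr]
    ring
  have hd0 : d ≠ 0 := Units.ne_zero _
  obtain ⟨x, y, hQ⟩ : ∃ x y : F, x * (c * x - a * y) - y * (a * x + b * y) = 1 := by
    by_cases hc0 : c = 0
    · have ha0 : a ≠ 0 := fun h => hd0 (by rw [hdv, h, hc0]; ring)
      refine ⟨(-1 - b) / (2 * a), 1, ?_⟩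
      rw [hc0]
      field_simp
      ring
    · obtain ⟨u, y, h⟩ := exists_sq_add h2 hd0 c
      refine ⟨(u + a * y) / c, y, ?_⟩
      field_simp
      rw [hdv] at h
      linear_combination h
  let P : SpecialLinearGroup (Fin 2) F := ⟨!![x, a * x + b * y; y, c * x - a * y], by
    rw [Matrix.det_fin_two_of]; linear_combination hQ⟩
  refine ⟨P, mul_inv_eq_iff_eq_mul.2 (Units.ext ?_)⟩
  show (!![x, a * x + b * y; y, c * x - a * y] : Matrix (Fin 2) (Fin 2) F) * !![0, -d; 1, 0] =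
    A.1 * !![x, a * x + b * y; y, c * x - a * y]
  rw [Matrix.eta_fin_two A.1, ← ha, ← hb, ← hc, htr]
  ext i j
  fin_cases i <;> fin_cases j <;> simp [Matrix.mul_apply, Fin.sum_univ_two, hdv] <;> ring

theorem cj_E (h2 : (2 : F) ≠ 0) (x : Pair F) (hA : x.1.1.1 1 1 = -x.1.1.1 0 0)
    (hB : x.1.2.1 1 1 = -x.1.2.1 0 0) : Cj (E Φ (GeneralLinearGroup.det x.1.1)) (Xi Φ x) := by
  obtain ⟨P, hP⟩ := exists_conj_Jd h2 x.1.1 hA
  obtain ⟨Q, hQ⟩ := exists_conj_Jd h2 x.1.2 hB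
  rw [← mem_Pair.1 x.2] at hQ
  refine cj_Xi Φ ⟨(Matrix.SpecialLinearGroup.toGL P, Matrix.SpecialLinearGroup.toGL Q),
    mem_Pair.2 (Units.ext (by simp [P.2, Q.2]))⟩ (Subtype.ext (Prod.ext hP hQ))

theorem cj_E_sq (h2 : (2 : F) ≠ 0) (d k : Fˣ) : Cj (E Φ (k ^ 2 * d)) (E Φ d) := by
  let x : Pair F := scal k * ⟨(Jd d, Jd d), mem_Pair.2 rfl⟩
  have hx : Xi Φ x = E Φ d := by
    have hk : scal k ∈ (Xi Φ (F := F)).ker := by rw [ker_Xi]; exact ⟨k, rfl⟩
    rw [map_mul, MonoidHom.mem_ker.1 hk, one_mul]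
    rfl
  have hd : GeneralLinearGroup.det x.1.1 = k ^ 2 * d := by
    show GeneralLinearGroup.det (scalarGL F k * Jd d) = _
    rw [map_mul, det_Jd, scalar_det (a := k) (by simp [scalarGL]) (by simp [scalarGL]) (by simp [scalarGL])
      (by simp [scalarGL])]
  rw [← hd, ← hx]
  refine cj_E Φ h2 x ?_ ?_ <;>
  · show (scalarGL F k * Jd d).1 1 1 = -(scalarGL F k * Jd d).1 0 0
    simp [scalarGL, Jd, Matrix.mul_apply, Fin.sum_univ_two]

omit [Finite F] in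
/-- Conjugation of torus elements by the inverse of a simple reflection element. -/
theorem cj_refl {D : ChevalleyDatum} (Ψ : Chev D) (i : Fin D.rank) (c : Fin D.rank → Fˣ) :
    (Ψ.nw (Ψ.p i) 1)⁻¹ * Ψ.toAlg.torus c * Ψ.nw (Ψ.p i) 1 = Ψ.toAlg.torus (Ψ.reflChar i c) := by
  rw [mul_assoc, Ψ.torus_nw_one, inv_mul_cancel_left]

omit [Finite F] in
theorem cartanChar_val (i j : Fin 2) (t : Fˣ) :
    Φ.toAlg.cartanChar i t j = t ^ ![![(2 : ℤ), -3], ![-1, 2]] i j := by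
  have h1 := CfsgLib.G2SL3.cartan_simple i j
  have h2 := Φ.cartan_val i (Φ.p j)
  have h3 := Φ.simple_val j
  rw [← h1, h3, h2]
  rfl

omit [Finite F] in
theorem reflChar_zero (a b : Fˣ) :
    Φ.reflChar (0 : Fin 2) (![a, b] : Fin 2 → Fˣ) = (![a⁻¹, a ^ 3 * b] : Fin 2 → Fˣ) := by
  funext j
  revert j
  show ∀ j : Fin 2, _
  intro j
  show ((![a, b] : Fin 2 → Fˣ) j) * (Φ.toAlg.cartanChar (0 : Fin 2) a j)⁻¹ = _
  rw [cartanChar_val]
  fin_cases j
  · simp [zpow_ofNat, pow_two]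
  · simp [zpow_ofNat, mul_comm]

omit [Finite F] in
theorem reflChar_one (a b : Fˣ) :
    Φ.reflChar (1 : Fin 2) (![a, b] : Fin 2 → Fˣ) = (![a * b, b⁻¹] : Fin 2 → Fˣ) := by
  funext j
  revert j
  show ∀ j : Fin 2, _
  intro j
  show ((![a, b] : Fin 2 → Fˣ) j) * (Φ.toAlg.cartanChar (1 : Fin 2) b j)⁻¹ = _
  rw [cartanChar_val]
  fin_cases j
  · simp
  · simp [zpow_ofNat, pow_two]

omit [Finite F] in
theorem cj_refl_zero (a b : Fˣ) : Cj (Φ.toAlg.torus (![a, b] : Fin 2 → Fˣ))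
    (Φ.toAlg.torus (![a⁻¹, a ^ 3 * b] : Fin 2 → Fˣ)) := by
  refine ⟨(Φ.nw (Φ.p (0 : Fin 2)) 1)⁻¹, inv_mem (Φ.N_le_group (Φ.nw_mem_N _ _)), ?_⟩
  rw [inv_inv]
  exact (cj_refl Φ (0 : Fin 2) _).trans (congrArg Φ.toAlg.torus (reflChar_zero Φ a b))

omit [Finite F] in
theorem cj_refl_one (a b : Fˣ) : Cj (Φ.toAlg.torus (![a, b] : Fin 2 → Fˣ))
    (Φ.toAlg.torus (![a * b, b⁻¹] : Fin 2 → Fˣ)) := by
  refine ⟨(Φ.nw (Φ.p (1 : Fin 2)) 1)⁻¹, inv_mem (Φ.N_le_group (Φ.nw_mem_N _ _)), ?_⟩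
  rw [inv_inv]
  exact (cj_refl Φ (1 : Fin 2) _).trans (congrArg Φ.toAlg.torus (reflChar_one Φ a b))

theorem cj_E_neg_one (h2 : (2 : F) ≠ 0) : Cj (E Φ (-1 : Fˣ)) (zel Φ) := by
  let x : Pair F := ⟨(GeneralLinearGroup.mkOfDetNeZero !![1, 0; 0, -1] (by simp),
    GeneralLinearGroup.mkOfDetNeZero !![1, 0; 0, -1] (by simp)), mem_Pair.2 rfl⟩
  have hd : GeneralLinearGroup.det x.1.1 = -1 := Units.ext (by simp [x, Matrix.det_fin_two])
  have h1 := cj_E Φ h2 x (by simp [x]) (by simp [x])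
  rw [hd] at h1
  refine h1.trans ?_
  have hs : ∀ i j, (sd x.1.1).1 i j = !![(-1 : F), 0; 0, -1] i j := by
    intro i j
    show (x.1.1.1 * !![(((GeneralLinearGroup.det x.1.1)⁻¹ : Fˣ) : F), 0; 0, 1]) i j = _
    rw [hd]
    fin_cases i <;> fin_cases j <;> simp [x, Matrix.mul_apply, Fin.sum_univ_two]
  have e : Xi Φ x = Φ.toAlg.torus (![1, -1] : Fin 2 → Fˣ) := by
    show phi Φ (R 6) (sd x.1.1) * phi Φ (R 9) (sd x.1.1) * td Φ (GeneralLinearGroup.det x.1.1) = _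
    rw [phi_six_diag Φ _ (-1) (by simp [hs]) (by simp [hs]) (by simp [hs]),
      phi_nine_diag Φ _ (-1) (by simp [hs]) (by simp [hs]) (by simp [hs]), hd, td, torus_vec_mul, torus_vec_mul]
    exact congrArg Φ.toAlg.torus (funext fun i => by fin_cases i <;> simp)
  rw [e]
  have h3 := (cj_refl_one Φ (1 : Fˣ) (-1)).trans (cj_refl_zero Φ _ _)
  have h4 : Φ.toAlg.torus (![((1 : Fˣ) * -1)⁻¹, ((1 : Fˣ) * -1) ^ 3 * (-1)⁻¹] : Fin 2 → Fˣ) = zel Φ :=
    congrArg Φ.toAlg.torus (funext fun i => by fin_cases i <;> simp [zc, pow_succ])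
  exact h4 ▸ h3

/-- The product of the two Weyl elements. -/
noncomputable def y0 : GL Cfsg.Lie.chevG2.Idx F := phi Φ (R 6) w * phi Φ (R 9) w

theorem cj_y0 (h2 : (2 : F) ≠ 0) (c : Fin 2 → Fˣ) : Cj (E Φ (c 1)) (y0 Φ * Φ.toAlg.torus c) := by
  let g : SpecialLinearGroup (Fin 2) F := ⟨!![(c 0 : F), 0; 0, ((c 0)⁻¹ : Fˣ)], by simp [Matrix.det_fin_two]⟩
  let x : Pair F := ⟨(Matrix.SpecialLinearGroup.toGL w * diagOne (c 1),
    Matrix.SpecialLinearGroup.toGL (w * g) * diagOne (c 1)), mem_Pair.2 (by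
      rw [map_mul, map_mul, det_diagOne]
      exact congrArg (· * c 1) (Units.ext (by simp [Matrix.SpecialLinearGroup.det_coe])))⟩
  have hdet : ∀ s : SpecialLinearGroup (Fin 2) F,
      GeneralLinearGroup.det (Matrix.SpecialLinearGroup.toGL s) = 1 := fun s => Units.ext (by simp [s.2])
  have hs : ∀ s : SpecialLinearGroup (Fin 2) F,
      sd (Matrix.SpecialLinearGroup.toGL s * diagOne (c 1)) = s := fun s => by
    rw [sd_mul, sd_diagOne, map_one, mul_one]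
    refine Subtype.ext ?_
    show s.1 * !![(((GeneralLinearGroup.det (Matrix.SpecialLinearGroup.toGL s))⁻¹ : Fˣ) : F), 0; 0, 1] = s.1
    rw [hdet]
    simp [← Matrix.one_fin_two]
  have hd : GeneralLinearGroup.det x.1.1 = c 1 := by
    show GeneralLinearGroup.det (Matrix.SpecialLinearGroup.toGL w * diagOne (c 1)) = _
    rw [map_mul, hdet, det_diagOne, one_mul]
  have h := cj_E Φ h2 x (by simp [x, w, diagOne, Matrix.SpecialLinearGroup.toGL, Matrix.mul_apply, Fin.sum_univ_two])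
    (by
      show ((w * g).1 * (diagOne (c 1)).1) 1 1 = -((w * g).1 * (diagOne (c 1)).1) 0 0
      rw [RankOne.val_mul]
      simp [w, g, diagOne, Matrix.mul_apply, Fin.sum_univ_two])
  have e : Xi Φ x = y0 Φ * Φ.toAlg.torus c := by
    show phi Φ (R 6) (sd (Matrix.SpecialLinearGroup.toGL w * diagOne (c 1))) *
      phi Φ (R 9) (sd (Matrix.SpecialLinearGroup.toGL (w * g) * diagOne (c 1))) *
      td Φ (GeneralLinearGroup.det x.1.1) = _
    rw [hs, hs, hd, map_mul, phi_nine_diag Φ g (c 0) rfl rfl rfl, td, y0, ← mul_assoc,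
      mul_assoc (phi Φ (R 6) w * _), torus_vec_mul, mul_one, one_mul]
    exact congrArg _ (congrArg Φ.toAlg.torus (funext fun i => by fin_cases i <;> rfl))
  rw [hd, e] at h
  exact h

omit [Finite F] in
theorem y0_mem_N : y0 Φ (F := F) ∈ Cfsg.Lie.chevG2.monomialSubgroup F := by
  rw [y0, phi_w, phi_w]
  exact mul_mem (Φ.nw_mem_N _ _) (Φ.nw_mem_N _ _)

omit [Finite F] in
theorem neg_table : ∀ r t : Fin 12, coords t 0 = -coords r 0 → coords t 1 = -coords r 1 → t = r.rev := by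
  decide

omit [Finite F] in
theorem y0_mono (h2 : (2 : F) ≠ 0) : Φ.Mono (y0 Φ (F := F)) Φ.negPerm := by
  obtain ⟨σ, sW, sm, s7, s6⟩ := mono_six Φ h2 (F := F)
  obtain ⟨τ, tW, tm, t7, t6⟩ := mono_nine Φ h2 (F := F)
  rw [y0, phi_w, phi_w]
  have h := Chev.Mono.mul Φ sm tm
  suffices e : σ * τ = Φ.negPerm by rwa [e] at h
  refine Equiv.ext fun r => ?_
  have a7 : (σ * τ) (R 7) = R 4 := by
    rw [Equiv.Perm.mul_apply, t7]
    have u0 := W_coords Φ sW 3 0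
    have u1 := W_coords Φ sW 3 1
    rw [s7, s6] at u0 u1
    exact neg_table 7 _ (u0.trans (by decide)) (u1.trans (by decide))
  have a6 : (σ * τ) (R 6) = R 5 := by rw [Equiv.Perm.mul_apply, t6, s6]
  have u : ∀ j, coords ((σ * τ) (R r)) j = coords r 0 * coords 4 j + coords r 1 * coords 5 j := fun j => by
    have h := W_coords Φ (mul_mem sW tW) r j
    rw [a7, a6] at h
    exact h
  refine neg_table r _ ((u 0).trans ?_) ((u 1).trans ?_) <;> simp [coords]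

theorem cj_shift (h2 : (2 : F) ≠ 0) :
    ∃ t : Fˣ, ∀ a b : Fˣ, Cj (E Φ b) (E Φ (t * (a ^ 3 * b))) := by
  set N := Φ.nw (Φ.p (0 : Fin 2)) (1 : Fˣ) with hN
  have hmN : Φ.Mono N (Φ.reflPerm (0 : Fin 2)) := Φ.nw_one_mono _
  obtain ⟨π, hπ, hπ'⟩ := Φ.exists_mono (F := F) (Φ.nw_mem_N (Φ.p (0 : Fin 2)) 1)
  obtain rfl : π = Φ.reflPerm (0 : Fin 2) := Chev.Mono.unique Φ hπ hmN
  obtain ⟨ρ, hρ, hρ'⟩ := Φ.exists_mono (y0_mem_N Φ (F := F))
  obtain rfl : ρ = Φ.negPerm := Chev.Mono.unique Φ hρ (y0_mono Φ h2)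
  have hmem : (y0 Φ)⁻¹ * (N⁻¹ * y0 Φ * N) ∈ Cfsg.Lie.chevG2.diagonalSubgroup F := by
    refine Φ.mem_H_of_mono_one
      (mul_mem (inv_mem (y0_mem_N Φ)) (mul_mem (mul_mem (inv_mem (Φ.nw_mem_N _ _)) (y0_mem_N Φ)) (Φ.nw_mem_N _ _))) ?_
    have h := Chev.Mono.mul Φ hρ' (Chev.Mono.mul Φ (Chev.Mono.mul Φ hπ' hρ) hπ)
    have e : (Φ.negPerm)⁻¹ * ((Φ.reflPerm (0 : Fin 2))⁻¹ * Φ.negPerm * Φ.reflPerm (0 : Fin 2)) = 1 := by
      rw [mul_assoc _ Φ.negPerm, ← Φ.negPerm_commute (Φ.reflPerm_mem_WL (0 : Fin 2)), inv_mul_cancel_left,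
        inv_mul_cancel]
    rwa [e] at h
  obtain ⟨t0, ht0⟩ : ∃ t0 : Fin 2 → Fˣ, (y0 Φ)⁻¹ * (N⁻¹ * y0 Φ * N) = Φ.toAlg.torus t0 :=
    Φ.exists_torus_of_mem_H hmem
  refine ⟨t0 1, fun a b => ?_⟩
  have hc : Cj (y0 Φ * Φ.toAlg.torus (![a, b] : Fin 2 → Fˣ))
      (y0 Φ * Φ.toAlg.torus (![t0 0 * a⁻¹, t0 1 * (a ^ 3 * b)] : Fin 2 → Fˣ)) := by
    refine ⟨N⁻¹, inv_mem (Φ.N_le_group (Φ.nw_mem_N _ _)), ?_⟩
    have e : Φ.toAlg.torus t0 = Φ.toAlg.torus (![t0 0, t0 1] : Fin 2 → Fˣ) :=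
      congrArg Φ.toAlg.torus (funext fun i => by fin_cases i <;> rfl)
    calc N⁻¹ * (y0 Φ * Φ.toAlg.torus (![a, b] : Fin 2 → Fˣ)) * N⁻¹⁻¹
        = y0 Φ * ((y0 Φ)⁻¹ * (N⁻¹ * y0 Φ * N)) * (N⁻¹ * Φ.toAlg.torus (![a, b] : Fin 2 → Fˣ) * N) := by group
      _ = y0 Φ * Φ.toAlg.torus t0 * Φ.toAlg.torus (![a⁻¹, a ^ 3 * b] : Fin 2 → Fˣ) := by
          rw [ht0, hN, (cj_refl Φ (0 : Fin 2) _).trans (congrArg Φ.toAlg.torus (reflChar_zero Φ a b))]
      _ = _ := by rw [e, mul_assoc, torus_vec_mul]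
  exact ((cj_y0 Φ h2 (![a, b] : Fin 2 → Fˣ)).trans hc).trans (cj_y0 Φ h2 _).symm

/-- All the `E d` are conjugate to the central involution. -/
theorem cj_E_zel (h2 : (2 : F) ≠ 0) (d : Fˣ) : Cj (E Φ d) (zel Φ) := by
  classical
  haveI := Fintype.ofFinite F
  have hneg := cj_E_neg_one Φ h2
  have good_sq : ∀ u : Fˣ, IsSquare (u : F) → Cj (E Φ (-u)) (zel Φ) := by
    intro u ⟨k, hk⟩
    have hk0 : k ≠ 0 := fun h => u.ne_zero (by rw [hk, h, mul_zero])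
    have e : -u = Units.mk0 k hk0 ^ 2 * (-1) := Units.ext (by simp [hk, pow_two])
    rw [e]
    exact (cj_E_sq Φ h2 _ _).trans hneg
  have hmul : ∀ a b : F, a ≠ 0 → b ≠ 0 → ¬ IsSquare a → ¬ IsSquare b → IsSquare (a * b) := by
    intro a b ha hb h1 h3
    rw [← quadraticChar_one_iff_isSquare (mul_ne_zero ha hb), map_mul,
      quadraticChar_neg_one_iff_not_isSquare.2 h1, quadraticChar_neg_one_iff_not_isSquare.2 h3]
    norm_num
  by_cases hd : IsSquare ((-d : Fˣ) : F)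
  · have := good_sq (-d) hd
    rwa [neg_neg] at this
  obtain ⟨t, ht⟩ := cj_shift Φ h2
  have key : ∀ e : Fˣ, Cj (E Φ e) (zel Φ) → IsSquare ((e * d : Fˣ) : F) → Cj (E Φ d) (zel Φ) := by
    intro e he ⟨k, hk⟩
    have hk0 : k ≠ 0 := fun h => (e * d).ne_zero (by rw [hk, h, mul_zero])
    have e' : d = (Units.mk0 k hk0 * e⁻¹) ^ 2 * e := Units.ext (by
      rw [Units.val_mul] at hk
      simp
      field_simp
      linear_combination hk)
    rw [e']
    exact (cj_E_sq Φ h2 _ _).trans he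
  have h1 : Cj (E Φ (t * -1)) (zel Φ) := by
    have := (ht 1 (-1)).symm.trans hneg
    rwa [one_pow, one_mul] at this
  have h3 : Cj (E Φ (t * ((-d) ^ 3 * -1))) (zel Φ) := (ht (-d) (-1)).symm.trans hneg
  by_cases ht1 : IsSquare (t : F)
  · refine key _ h3 ?_
    obtain ⟨k, hk⟩ := ht1
    exact ⟨k * (d : F) ^ 2, by simp [hk]; ring⟩
  · refine key _ h1 ?_
    have := hmul (t : F) ((-d : Fˣ) : F) t.ne_zero (Units.ne_zero _) ht1 hd
    simpa using this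

/-- The involutions of the centralizer. -/
theorem cj_of_mem_range (h2 : (2 : F) ≠ 0) {g : GL Cfsg.Lie.chevG2.Idx F} (hg : g ∈ (Xi Φ).range)
    (hsq : g * g = 1) (hne : g ≠ 1) : Cj g (zel Φ) := by
  obtain ⟨x, rfl⟩ := hg
  have hk : x * x ∈ (Xi Φ (F := F)).ker := by rw [MonoidHom.mem_ker, map_mul, hsq]
  rw [ker_Xi] at hk
  obtain ⟨m, hm⟩ := hk
  have hA : x.1.1.1 * x.1.1.1 = (scalarGL F m).1 := congrArg (fun z : Pair F => z.1.1.1) hm.symm
  have hB : x.1.2.1 * x.1.2.1 = (scalarGL F m).1 := congrArg (fun z : Pair F => z.1.2.1) hm.symm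
  have cases : ∀ M : GL (Fin 2) F, M.1 * M.1 = (scalarGL F m).1 →
      (M.1 1 1 = -M.1 0 0 ∧ (GeneralLinearGroup.det M : F) = -(m : F)) ∨
      (∃ a : Fˣ, M.1 1 0 = 0 ∧ M.1 0 1 = 0 ∧ M.1 0 0 = a ∧ M.1 1 1 = a ∧ (a : F) * a = m ∧
        (GeneralLinearGroup.det M : F) = m) := by
    intro M hM
    have e00 := congrFun (congrFun hM 0) 0
    have e01 := congrFun (congrFun hM 0) 1
    have e10 := congrFun (congrFun hM 1) 0
    have e11 := congrFun (congrFun hM 1) 1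
    simp [scalarGL, Matrix.mul_apply, Fin.sum_univ_two] at e00 e01 e10 e11
    by_cases htr : M.1 1 1 = -M.1 0 0
    · left
      refine ⟨htr, ?_⟩
      rw [GeneralLinearGroup.val_det_apply, Matrix.det_fin_two, htr]
      linear_combination -e00
    · right
      have hs : M.1 0 0 + M.1 1 1 ≠ 0 := fun h => htr (by linear_combination h)
      have h01 : M.1 0 1 = 0 := (mul_eq_zero.1 (show M.1 0 1 * (M.1 0 0 + M.1 1 1) = 0 by
        linear_combination e01)).resolve_right hs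
      have h10 : M.1 1 0 = 0 := (mul_eq_zero.1 (show M.1 1 0 * (M.1 0 0 + M.1 1 1) = 0 by
        linear_combination e10)).resolve_right hs
      rw [h01, h10] at e00
      rw [h01, h10] at e11
      have h11 : M.1 1 1 = M.1 0 0 := sub_eq_zero.1 ((mul_eq_zero.1
        (show (M.1 1 1 - M.1 0 0) * (M.1 0 0 + M.1 1 1) = 0 by linear_combination e11 - e00)).resolve_right hs)
      have ha : M.1 0 0 ≠ 0 := fun h => hs (by rw [h11, h, add_zero])
      refine ⟨Units.mk0 _ ha, h10, h01, rfl, h11, ?_, ?_⟩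
      · rw [Units.val_mk0]; linear_combination e00
      · rw [GeneralLinearGroup.val_det_apply, Matrix.det_fin_two, h10, h01, h11]; linear_combination e00
  have hdet : (GeneralLinearGroup.det x.1.1 : F) = GeneralLinearGroup.det x.1.2 := congrArg Units.val (mem_Pair.1 x.2)
  have hbad : ¬ ((m : F) = -(m : F)) := fun h => by
    have h' : (2 : F) * m = 0 := by linear_combination h
    exact (mul_ne_zero h2 m.ne_zero) h'
  rcases cases _ hA with ⟨hta, hda⟩ | ⟨a, a1, a2, a3, a4, a5, hda⟩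
  · rcases cases _ hB with ⟨htb, -⟩ | ⟨b, b1, b2, b3, b4, b5, hdb⟩
    · exact (cj_E Φ h2 x hta htb).symm.trans (cj_E_zel Φ h2 _)
    · exact absurd (hdb.symm.trans (hdet.symm.trans hda)) hbad
  · rcases cases _ hB with ⟨htb, hdb⟩ | ⟨b, b1, b2, b3, b4, b5, -⟩
    · exact absurd (hda.symm.trans (hdet.trans hdb)) hbad
    · rw [Xi_scalar Φ x a b ⟨a1, a2, a3, a4⟩ ⟨b1, b2, b3, b4⟩] at hne ⊢
      have hab : a * b⁻¹ = -1 := by
        rcases mul_self_eq_mul_self_iff.1 (a5.trans b5.symm) with h | h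
        · exact absurd (by rw [Units.ext h, mul_inv_cancel]; exact torus_vec_one Φ) hne
        · have : a = -b := Units.ext (by simpa using h)
          rw [this, neg_mul, mul_inv_cancel]
      rw [hab]
      exact ⟨1, one_mem _, by rw [one_mul, inv_one, mul_one]; rfl⟩

end CfsgLib.G2Odd
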