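import Cfsg.Agent.Lib.G2Odd.Basic
import Mathlib.LinearAlgebra.Matrix.GeneralLinearGroup.Card

/-!
The map onto the subgroup `SL(2) ∘ SL(2)` extended by a diagonal element, from pairs in `GL(2)` with
equal determinants.
-/

set_option autoImplicit false
set_option linter.dupNamespace false

namespace CfsgLib.G2Odd

open Cfsg.Lie Matrix CfsgLib.Chev CfsgLib.Chev.RankOne

variable {F : Type*} [Field F]

/-- The determinant quotient. -/
noncomputable def ratio : GL (Fin 2) F × GL (Fin 2) F →* Fˣ :=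
  (GeneralLinearGroup.det.comp (MonoidHom.fst _ _)) / (GeneralLinearGroup.det.comp (MonoidHom.snd _ _))

variable (F) in
/-- Pairs with equal determinants. -/
noncomputable def Pair : Subgroup (GL (Fin 2) F × GL (Fin 2) F) := (ratio (F := F)).ker

theorem mem_Pair {x : GL (Fin 2) F × GL (Fin 2) F} :
    x ∈ Pair F ↔ GeneralLinearGroup.det x.1 = GeneralLinearGroup.det x.2 := by
  rw [Pair, MonoidHom.mem_ker]
  exact div_eq_one

/-- The special part of an element of `GL(2)`. -/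
noncomputable def sd (A : GL (Fin 2) F) : SpecialLinearGroup (Fin 2) F :=
  ⟨A.1 * !![(((GeneralLinearGroup.det A)⁻¹ : Fˣ) : F), 0; 0, 1], by
    rw [Matrix.det_mul, Matrix.det_fin_two_of, mul_one, mul_zero, sub_zero,
      ← GeneralLinearGroup.val_det_apply, ← Units.val_mul, mul_inv_cancel, Units.val_one]⟩

theorem sd_mul (A B : GL (Fin 2) F) : sd (A * B) = sd A * dconj (GeneralLinearGroup.det A) (sd B) := by
  refine Subtype.ext ?_
  set a := GeneralLinearGroup.det A with ha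
  show (A * B).1 * !![(((GeneralLinearGroup.det (A * B))⁻¹ : Fˣ) : F), 0; 0, 1] =
    A.1 * !![((a⁻¹ : Fˣ) : F), 0; 0, 1] *
      !![(sd B).1 0 0, (a : F) * (sd B).1 0 1; ((a⁻¹ : Fˣ) : F) * (sd B).1 1 0, (sd B).1 1 1]
  rw [map_mul, ← ha, Units.val_mul, Matrix.mul_assoc, Matrix.mul_assoc, mul_inv]
  congr 1
  ext i j
  fin_cases i <;> fin_cases j <;>
    simp [sd, Matrix.mul_apply, Fin.sum_univ_two, Matrix.vecHead, Matrix.vecTail] <;>
    field_simp <;> ring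

theorem sd_one : sd (1 : GL (Fin 2) F) = 1 :=
  Subtype.ext (by
    show (1 : GL (Fin 2) F).1 * _ = 1
    simp [Matrix.one_fin_two])

variable (Φ : Chev Cfsg.Lie.chevG2)

/-- The torus element with parameters `(1, d)`. -/
noncomputable def td (d : Fˣ) : GL Cfsg.Lie.chevG2.Idx F := Φ.toAlg.torus (![1, d] : Fin 2 → Fˣ)

theorem chi_six (c : Fin 2 → Fˣ) : Φ.toSys.chi c (R 6) = c 1 := by
  rw [CfsgLib.G2SL3.chi_eq Φ c 6]
  simp [CfsgLib.G2SL3.coords]

theorem chi_nine (c : Fin 2 → Fˣ) : Φ.toSys.chi c (R 9) = c 0 ^ 2 * c 1 := by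
  rw [CfsgLib.G2SL3.chi_eq Φ c 9]
  simp [CfsgLib.G2SL3.coords]

theorem vec_mul (a b c d : Fˣ) :
    (![a, b] : Fin 2 → Fˣ) * ![c, d] = ![a * c, b * d] :=
  funext fun i => by fin_cases i <;> rfl

theorem vec_one : (![1, 1] : Fin 2 → Fˣ) = 1 := funext fun i => by fin_cases i <;> rfl

theorem torus_vec_mul (a b c d : Fˣ) :
    Φ.toAlg.torus (![a, b] : Fin 2 → Fˣ) * Φ.toAlg.torus (![c, d] : Fin 2 → Fˣ) =
      Φ.toAlg.torus (![a * c, b * d] : Fin 2 → Fˣ) :=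
  (map_mul _ _ _).symm.trans (congrArg Φ.toAlg.torus (vec_mul a b c d))

theorem torus_vec_one : Φ.toAlg.torus (R := F) (![1, 1] : Fin 2 → Fˣ) = 1 :=
  (congrArg Φ.toAlg.torus vec_one).trans (map_one _)

theorem td_mul (a b : Fˣ) : td Φ (a * b) = td Φ a * td Φ b := by
  rw [td, td, td, torus_vec_mul, one_mul]

theorem td_phi_six (d : Fˣ) (g : SpecialLinearGroup (Fin 2) F) :
    td Φ d * phi Φ (R 6) g = phi Φ (R 6) (dconj d g) * td Φ d := by
  rw [td, torus_phi Φ (R 6) (![1, d] : Fin 2 → Fˣ) g, chi_six]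
  simp

theorem td_phi_nine (d : Fˣ) (g : SpecialLinearGroup (Fin 2) F) :
    td Φ d * phi Φ (R 9) g = phi Φ (R 9) (dconj d g) * td Φ d := by
  rw [td, torus_phi Φ (R 9) (![1, d] : Fin 2 → Fˣ) g, chi_nine]
  simp

/-- The homomorphism on pairs. -/
noncomputable def Xi : Pair F →* GL Cfsg.Lie.chevG2.Idx F where
  toFun x := phi Φ (R 6) (sd x.1.1) * phi Φ (R 9) (sd x.1.2) * td Φ (GeneralLinearGroup.det x.1.1)
  map_one' := by
    simp only [OneMemClass.coe_one, Prod.fst_one, Prod.snd_one, sd_one, map_one, one_mul, td]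
    exact torus_vec_one Φ
  map_mul' x y := by
    set d := GeneralLinearGroup.det x.1.1 with hd
    set d' := GeneralLinearGroup.det y.1.1 with hd'
    set a := phi Φ (R 6) (sd x.1.1)
    set b := phi Φ (R 9) (sd x.1.2) with hb
    simp only [Subgroup.coe_mul, Prod.fst_mul, Prod.snd_mul, sd_mul, ← mem_Pair.1 x.2, ← hd, map_mul,
      ← hd', td_mul]
    calc a * phi Φ (R 6) (dconj d (sd y.1.1)) * (b * phi Φ (R 9) (dconj d (sd y.1.2))) * (td Φ d * td Φ d')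
        = a * (phi Φ (R 6) (dconj d (sd y.1.1)) * b) *
            (phi Φ (R 9) (dconj d (sd y.1.2)) * td Φ d) * td Φ d' := by group
      _ = a * (b * phi Φ (R 6) (dconj d (sd y.1.1))) * (td Φ d * phi Φ (R 9) (sd y.1.2)) * td Φ d' := by
          rw [hb, (phi_comm Φ _ _).eq, td_phi_nine]
      _ = a * b * (phi Φ (R 6) (dconj d (sd y.1.1)) * td Φ d) * phi Φ (R 9) (sd y.1.2) * td Φ d' := by group
      _ = _ := by rw [← td_phi_six]; group

theorem td_mem_group (d : Fˣ) : td Φ d ∈ Cfsg.Lie.chevG2.group F :=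
  Φ.B_le_group (Chev.H_le_B (CfsgLib.G2SL3.torus_mem_H_G2 Φ _))

theorem Xi_mem_group (x : Pair F) : Xi Φ x ∈ Cfsg.Lie.chevG2.group F :=
  mul_mem (mul_mem (phi_mem_group Φ _ _) (phi_mem_group Φ _ _)) (td_mem_group Φ _)

theorem ext_of_mul (A : GL (Fin 2) F) (g h : SpecialLinearGroup (Fin 2) F) (e : A.1 * g.1 = h.1 * A.1) :
    sd A * dconj (GeneralLinearGroup.det A) g = h * sd A := by
  refine Subtype.ext ?_
  set a := GeneralLinearGroup.det A
  show A.1 * !![((a⁻¹ : Fˣ) : F), 0; 0, 1] *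
      !![g.1 0 0, (a : F) * g.1 0 1; ((a⁻¹ : Fˣ) : F) * g.1 1 0, g.1 1 1] =
    h.1 * (A.1 * !![((a⁻¹ : Fˣ) : F), 0; 0, 1])
  rw [← Matrix.mul_assoc h.1, ← e, Matrix.mul_assoc, Matrix.mul_assoc]
  congr 1
  ext i j
  fin_cases i <;> fin_cases j <;>
    simp [Matrix.mul_apply, Fin.sum_univ_two, Matrix.vecHead, Matrix.vecTail] <;>
    field_simp

theorem Xi_phi_six (x : Pair F) (g h : SpecialLinearGroup (Fin 2) F) (e : x.1.1.1 * g.1 = h.1 * x.1.1.1) :
    Xi Φ x * phi Φ (R 6) g = phi Φ (R 6) h * Xi Φ x := by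
  set d := GeneralLinearGroup.det x.1.1
  show phi Φ (R 6) (sd x.1.1) * phi Φ (R 9) (sd x.1.2) * td Φ d * _ = _ * (_ * _ * td Φ d)
  rw [mul_assoc _ (td Φ d), td_phi_six, ← mul_assoc, mul_assoc _ (phi Φ (R 9) _) (phi Φ (R 6) _),
    ← (phi_comm Φ _ _).eq, ← mul_assoc, ← map_mul, ext_of_mul _ g h e, map_mul]
  group

theorem Xi_phi_nine (x : Pair F) (g h : SpecialLinearGroup (Fin 2) F) (e : x.1.2.1 * g.1 = h.1 * x.1.2.1) :
    Xi Φ x * phi Φ (R 9) g = phi Φ (R 9) h * Xi Φ x := by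
  set d := GeneralLinearGroup.det x.1.1 with hd
  have hd2 : d = GeneralLinearGroup.det x.1.2 := mem_Pair.1 x.2
  show phi Φ (R 6) (sd x.1.1) * phi Φ (R 9) (sd x.1.2) * td Φ d * _ = _ * (_ * _ * td Φ d)
  rw [mul_assoc _ (td Φ d), td_phi_nine, ← mul_assoc, mul_assoc _ (phi Φ (R 9) _) (phi Φ (R 9) _),
    ← map_mul, hd2, ext_of_mul _ g h e, map_mul, ← mul_assoc, (phi_comm Φ _ _).eq]
  group

theorem scalar_of_commute (A : Matrix (Fin 2) (Fin 2) F)
    (h : ∀ g : SpecialLinearGroup (Fin 2) F, A * g.1 = g.1 * A) :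
    A 1 0 = 0 ∧ A 0 1 = 0 ∧ A 1 1 = A 0 0 := by
  have e1 := congrFun (congrFun (h (u 1)) 0) 0
  have e2 := congrFun (congrFun (h (u 1)) 0) 1
  have e3 := congrFun (congrFun (h (l 1)) 0) 0
  simp [u, l, Matrix.mul_apply, Fin.sum_univ_two] at e1 e2 e3
  refine ⟨e1, e3, ?_⟩
  linear_combination -e2

/-- Diagonal elements. -/
theorem phi_six_diag (g : SpecialLinearGroup (Fin 2) F) (a : Fˣ) (h10 : g.1 1 0 = 0) (h01 : g.1 0 1 = 0)
    (h00 : g.1 0 0 = a) : phi Φ (R 6) g = Φ.toAlg.torus (![a⁻¹, a ^ 2] : Fin 2 → Fˣ) := by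
  rw [phi_diag Φ _ g a h10 h01 h00, coChar_six]

theorem phi_nine_diag (g : SpecialLinearGroup (Fin 2) F) (a : Fˣ) (h10 : g.1 1 0 = 0) (h01 : g.1 0 1 = 0)
    (h00 : g.1 0 0 = a) : phi Φ (R 9) g = Φ.toAlg.torus (![a, 1] : Fin 2 → Fˣ) := by
  rw [phi_diag Φ _ g a h10 h01 h00, coChar_nine]

theorem scalar_det {A : GL (Fin 2) F} {a : Fˣ} (h10 : A.1 1 0 = 0) (h01 : A.1 0 1 = 0)
    (h00 : A.1 0 0 = a) (h11 : A.1 1 1 = a) : GeneralLinearGroup.det A = a ^ 2 := by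
  refine Units.ext ?_
  rw [GeneralLinearGroup.val_det_apply, Matrix.det_fin_two, h10, h01, h00, h11, Units.val_pow_eq_pow_val]
  ring

theorem sd_scalar {A : GL (Fin 2) F} {a : Fˣ} (h10 : A.1 1 0 = 0) (h01 : A.1 0 1 = 0)
    (h00 : A.1 0 0 = a) (h11 : A.1 1 1 = a) :
    (sd A).1 1 0 = 0 ∧ (sd A).1 0 1 = 0 ∧ (sd A).1 0 0 = ((a⁻¹ : Fˣ) : F) := by
  show (A.1 * _ : Matrix (Fin 2) (Fin 2) F) 1 0 = 0 ∧ (A.1 * _ : Matrix (Fin 2) (Fin 2) F) 0 1 = 0 ∧
    (A.1 * _ : Matrix (Fin 2) (Fin 2) F) 0 0 = _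
  rw [scalar_det h10 h01 h00 h11]
  refine ⟨?_, ?_, ?_⟩ <;>
    simp [Matrix.mul_apply, Fin.sum_univ_two, h10, h01, h00, h11]
  field_simp

/-- The value at a pair of scalars. -/
theorem Xi_scalar (x : Pair F) (a b : Fˣ)
    (hA : x.1.1.1 1 0 = 0 ∧ x.1.1.1 0 1 = 0 ∧ x.1.1.1 0 0 = a ∧ x.1.1.1 1 1 = a)
    (hB : x.1.2.1 1 0 = 0 ∧ x.1.2.1 0 1 = 0 ∧ x.1.2.1 0 0 = b ∧ x.1.2.1 1 1 = b) :
    Xi Φ x = Φ.toAlg.torus (![a * b⁻¹, 1] : Fin 2 → Fˣ) := by
  obtain ⟨a1, a2, a3, a4⟩ := hA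
  obtain ⟨b1, b2, b3, b4⟩ := hB
  obtain ⟨s1, s2, s3⟩ := sd_scalar a1 a2 a3 a4
  obtain ⟨t1, t2, t3⟩ := sd_scalar b1 b2 b3 b4
  show _ * _ * td Φ _ = _
  rw [phi_six_diag Φ _ _ s1 s2 s3, phi_nine_diag Φ _ _ t1 t2 t3, scalar_det a1 a2 a3 a4, td]
  rw [torus_vec_mul, torus_vec_mul]
  exact congrArg Φ.toAlg.torus (funext fun i => by fin_cases i <;> simp)

/-- Scalar matrices. -/
def scalarGL (F : Type*) [Field F] : Fˣ →* GL (Fin 2) F :=
  Units.map ((Matrix.scalar (Fin 2) : F →+* Matrix (Fin 2) (Fin 2) F) : F →* Matrix (Fin 2) (Fin 2) F)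

/-- The scalar pairs. -/
noncomputable def scal : Fˣ →* Pair F :=
  MonoidHom.codRestrict ((scalarGL F).prod (scalarGL F)) (Pair F) fun _ => mem_Pair.2 rfl

theorem ker_Xi : (Xi Φ (F := F)).ker = (scal (F := F)).range := by
  refine le_antisymm (fun x hx => ?_) ?_
  · rw [MonoidHom.mem_ker] at hx
    have hA : ∀ g : SpecialLinearGroup (Fin 2) F, x.1.1.1 * g.1 = g.1 * x.1.1.1 := fun g => by
      let h : SpecialLinearGroup (Fin 2) F := ⟨x.1.1.1 * g.1 * (x.1.1⁻¹).1, by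
        rw [Matrix.det_mul_comm, ← Matrix.mul_assoc, ← Units.val_mul, inv_mul_cancel, Units.val_one,
          Matrix.one_mul, g.2]⟩
      have e : x.1.1.1 * g.1 = h.1 * x.1.1.1 := by
        show _ = _ * _ * _ * _
        rw [Matrix.mul_assoc _ (x.1.1⁻¹).1, ← Units.val_mul, inv_mul_cancel, Units.val_one, Matrix.mul_one]
      have h1 := Xi_phi_six Φ x g h e
      rw [hx, one_mul, mul_one] at h1
      rw [← phi_six_injective Φ h1] at e
      exact e
    have hB : ∀ g : SpecialLinearGroup (Fin 2) F, x.1.2.1 * g.1 = g.1 * x.1.2.1 := fun g => by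
      let h : SpecialLinearGroup (Fin 2) F := ⟨x.1.2.1 * g.1 * (x.1.2⁻¹).1, by
        rw [Matrix.det_mul_comm, ← Matrix.mul_assoc, ← Units.val_mul, inv_mul_cancel, Units.val_one,
          Matrix.one_mul, g.2]⟩
      have e : x.1.2.1 * g.1 = h.1 * x.1.2.1 := by
        show _ = _ * _ * _ * _
        rw [Matrix.mul_assoc _ (x.1.2⁻¹).1, ← Units.val_mul, inv_mul_cancel, Units.val_one, Matrix.mul_one]
      have h1 := Xi_phi_nine Φ x g h e
      rw [hx, one_mul, mul_one] at h1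
      rw [← phi_nine_injective Φ h1] at e
      exact e
    obtain ⟨a1, a2, a4⟩ := scalar_of_commute _ hA
    obtain ⟨b1, b2, b4⟩ := scalar_of_commute _ hB
    have ha : x.1.1.1 0 0 ≠ 0 := fun h => by
      have := (GeneralLinearGroup.det x.1.1).ne_zero
      simp [GeneralLinearGroup.val_det_apply, Matrix.det_fin_two, a1, h] at this
    have hb : x.1.2.1 0 0 ≠ 0 := fun h => by
      have := (GeneralLinearGroup.det x.1.2).ne_zero
      simp [GeneralLinearGroup.val_det_apply, Matrix.det_fin_two, b1, h] at this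
    rw [Xi_scalar Φ x (Units.mk0 _ ha) (Units.mk0 _ hb) ⟨a1, a2, rfl, a4⟩ ⟨b1, b2, rfl, b4⟩] at hx
    have hab : Units.mk0 _ ha * (Units.mk0 _ hb)⁻¹ = 1 :=
      congrFun (Φ.torus_injective (hx.trans (map_one _).symm)) (0 : Fin 2)
    have hv : x.1.2.1 0 0 = x.1.1.1 0 0 := (congrArg Units.val (mul_inv_eq_one.1 hab)).symm
    refine ⟨Units.mk0 _ ha, Subtype.ext (Prod.ext (Units.ext ?_) (Units.ext ?_))⟩
    · ext i j
      fin_cases i <;> fin_cases j <;> simp [scal, scalarGL, a1, a2, a4]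
    · ext i j
      fin_cases i <;> fin_cases j <;> simp [scal, scalarGL, b1, b2, b4, hv]
  · rintro _ ⟨a, rfl⟩
    rw [MonoidHom.mem_ker, Xi_scalar Φ (scal a) a a (by simp [scal, scalarGL]) (by simp [scal, scalarGL]), mul_inv_cancel]
    exact torus_vec_one Φ

theorem card_range_Xi [Fintype F] :
    Nat.card (Xi Φ (F := F)).range = Fintype.card F ^ 2 * (Fintype.card F ^ 2 - 1) ^ 2 := by
  classical
  set q := Fintype.card F with hq
  have hq1 : 1 < q := Fintype.one_lt_card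
  have hU : Nat.card Fˣ = q - 1 := by rw [Nat.card_units, Nat.card_eq_fintype_card]
  have hGL : Nat.card (GL (Fin 2) F) = (q ^ 2 - 1) * (q * (q - 1)) := by
    rw [Matrix.card_GL_field, Fin.prod_univ_two]
    simp only [Fin.val_zero, Fin.val_one, pow_zero, pow_one, ← hq]
    rw [show q ^ 2 - q = q * (q - 1) by rw [Nat.mul_sub, mul_one, pow_two]]
  have hsurj : Function.Surjective (ratio (F := F)) := fun d =>
    ⟨(GeneralLinearGroup.mkOfDetNeZero !![(d : F), 0; 0, 1] (by simp), 1), Units.ext (by simp [ratio])⟩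
  have hP := (ratio (F := F)).ker.card_mul_index
  rw [Subgroup.index_ker, MonoidHom.range_eq_top.2 hsurj, Subgroup.card_top, Nat.card_prod, hGL, hU] at hP
  have hX := (Xi Φ (F := F)).ker.card_mul_index
  rw [Subgroup.index_ker, ker_Xi] at hX
  have hs : Nat.card (scal (F := F)).range = q - 1 := by
    rw [← hU]
    refine (Nat.card_congr (MonoidHom.ofInjective (f := scal) fun a b h => Units.ext ?_).toEquiv).symm
    have := congrArg (fun z : Pair F => z.1.1.1 0 0) h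
    simpa [scal, scalarGL] using this
  rw [hs] at hX
  refine Nat.eq_of_mul_eq_mul_left (show 0 < q - 1 by omega) ?_
  rw [hX]
  refine Nat.eq_of_mul_eq_mul_right (show 0 < q - 1 by omega) ?_
  refine hP.trans ?_
  ring

end CfsgLib.G2Odd
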